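import Groth.Agent.AdeqCoh.Kill
import Groth.Agent.AdeqSite.Push
import Groth.Agent.ModShf.ToSheaf
import Mathlib.CategoryTheory.Preadditive.Biproducts

/-!
# Cohomology of adequate modules on affine schemes vanishes
-/

set_option backward.isDefEq.respectTransparency false

universe u

open CategoryTheory CategoryTheory.Limits AlgebraicGeometry Opposite
open CategoryTheory.Abelian (Ext)

namespace Groth.Agent.AdeqCoh

open BigSite (Ab pullBig pushBig H HU sect)
open Groth.Agent.AdeqLib Groth.Agent.AdeqSite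

/-- The big fppf site. -/
local notation "Kf" => Scheme.fppfPrecoverage

variable {X : Scheme.{u}}

noncomputable instance : HasFiniteBiproducts (BigSite.Mod Kf X) :=
  HasFiniteBiproducts.of_hasFiniteProducts

/-- Vanishing up to degree `q` for adequate modules on affine schemes. -/
def Vanish (q : ℕ) : Prop :=
  ∀ (X : Scheme.{u}) [IsAffine X] (M : BigSite.Mod Kf X), Adeq.adequateMod Kf X M →
    ∀ j, 1 ≤ j → j ≤ q → Subsingleton (H Kf X ((BigSite.toAbMod Kf X).obj M) j)

theorem adequateMod_pull' {X W : Scheme.{u}} (w : W ⟶ X) (M : BigSite.Mod Kf X) (hM : Adeq.adequateMod Kf X M) :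
    Adeq.adequateMod Kf W ((BigSite.pullMod Kf w).obj M) :=
  adequateMod_pull w Scheme.zariskiPrecoverage_le_fppfPrecoverage M fun _ a => adequate_toMVF_fppf M hM a

theorem adequateMod_pushPull {X W : Scheme.{u}} (w : W ⟶ X) [IsAffineHom w] (M : BigSite.Mod Kf X)
    (hM : Adeq.adequateMod Kf X M) :
    Adeq.adequateMod Kf X ((BigSite.pushMod Kf w).obj ((BigSite.pullMod Kf w).obj M)) :=
  adequateMod_of_forall _ fun R a =>
    adequate_pushMod Scheme.zariskiPrecoverage_le_fppfPrecoverage w _
      (fun _ b => adequate_toMVF_fppf _ (adequateMod_pull' w M hM) b) R a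

theorem adequateMod_biproduct {κ : Type (u + 1)} [Finite κ] (N : κ → BigSite.Mod Kf X)
    (h : ∀ k, Adeq.adequateMod Kf X (N k)) : Adeq.adequateMod Kf X (⨁ N) :=
  (Adeq.adequateMod Kf X).prop_of_iso (biproduct.isoCoproduct N).symm
    (adequateMod_colimit (Discrete.functor N) fun k => h k.as)

theorem mono_of_cover {κ : Type (u + 1)} [Finite κ] {W : κ → Scheme.{u}} (w : ∀ k, W k ⟶ X)
    (hcov : Presieve.ofArrows W w ∈ (Kf).coverings X) (M : BigSite.Mod Kf X) :
    Mono (biproduct.lift fun k => (BigSite.modAdj Kf (w k)).unit.app M) := by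
  let η := biproduct.lift fun k => (BigSite.modAdj Kf (w k)).unit.app M
  have : Mono ((SheafOfModules.forget _).map η) := by
    refine PresheafOfModules.mono_of_injective fun U => ?_
    refine (injective_iff_map_eq_zero (sm η U.unop)).2 fun (t : BigSite.sectMod Kf M U.unop) ht => ?_
    refine eq_zero_of_cover M (fun k => (Over.map (w k)).obj ((Over.pullback (w k)).obj U.unop))
      (fun k => (Over.mapPullbackAdj (w k)).counit.app U.unop) ?_ t fun k => ?_
    · refine Precoverage.mem_coverings_of_isPullback w hcov U.unop.hom _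
        (fun k => pullback.snd U.unop.hom (w k)) fun k => ?_
      have := IsPullback.of_hasPullback U.unop.hom (w k)
      simpa [Over.mapPullbackAdj] using this
    · have h2 : sm ((BigSite.modAdj Kf (w k)).unit.app M) U.unop t = 0 := by
        have e : η ≫ biproduct.π _ k = (BigSite.modAdj Kf (w k)).unit.app M := biproduct.lift_π _ _
        rw [← e]
        exact (congrArg (sm (biproduct.π _ k) U.unop) ht).trans (map_zero _)
      exact h2
  exact (SheafOfModules.forget _).mono_of_mono_map this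

theorem eq_zero_of_biproduct {κ : Type (u + 1)} [Finite κ] (N : κ → BigSite.Mod Kf X) {n : ℕ}
    (x : H Kf X ((BigSite.toAbMod Kf X).obj (⨁ N)) n)
    (h : ∀ k, x.comp (Ext.mk₀ ((BigSite.toAbMod Kf X).map (biproduct.π N k))) (add_zero n) = 0) : x = 0 := by
  classical
  have : Fintype κ := Fintype.ofFinite κ
  have e : x = x.comp (Ext.mk₀ ((BigSite.toAbMod Kf X).map (∑ k, biproduct.π N k ≫ biproduct.ι N k))) (add_zero n) := by
    have tot : (∑ k, biproduct.π N k ≫ biproduct.ι N k) = 𝟙 (⨁ N) := by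
      refine biproduct.hom_ext _ _ fun j => ?_
      rw [Preadditive.sum_comp, Category.id_comp,
        Finset.sum_eq_single j (fun b _ hb => by rw [Category.assoc, biproduct.ι_π_ne N hb, comp_zero])
          (fun h => absurd (Finset.mem_univ j) h),
        Category.assoc, biproduct.ι_π_self, Category.comp_id]
    rw [tot, CategoryTheory.Functor.map_id, Ext.comp_mk₀_id]
  rw [e, Functor.map_sum, Ext.mk₀_sum, Ext.comp_sum]
  refine Finset.sum_eq_zero fun k _ => ?_
  rw [Functor.map_comp, ← Ext.mk₀_comp_mk₀, ← Ext.comp_assoc_of_third_deg_zero, h k, Ext.zero_comp]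

theorem eq_zero_of_res_eq_zero {X W : Scheme.{u}} (w : W ⟶ X) [IsAffineHom w] (q : ℕ) (F : Ab Kf X) (G : Ab Kf W)
    (hG : Van G q) (φ : F ⟶ (pushBig Kf w AddCommGrpCat.{u + 1}).obj G) (x : H Kf X F (q + 1))
    (hx : res w F (q + 1) x = 0) : x.comp (Ext.mk₀ φ) (add_zero _) = 0 := by
  refine mu_injective w Scheme.zariskiPrecoverage_le_fppfPrecoverage q G hG _ ?_
  rw [cmp_apply, mapPre_map, hx, Ext.zero_comp, Ext.zero_comp]

/-- The inductive step. -/
theorem vanish_succ (q : ℕ) (hq : Vanish.{u} q) : Vanish.{u} (q + 1) := by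
  intro X _ M hM j hj hjq
  rcases Nat.lt_or_ge j (q + 1) with hlt | hge
  · exact hq X M hM j hj (by omega)
  obtain rfl : j = q + 1 := by omega
  refine subsingleton_of_forall_eq 0 fun x => ?_
  let T := BigSite.toAbMod Kf X
  obtain ⟨κ₀, hκ₀, U, haff, hcov₀, hkill⟩ := exists_kill q X (T.obj M) x
  let κ := ULift.{u + 1} κ₀
  let W : κ → Scheme.{u} := fun k => (U k.down).left
  let w : ∀ k, W k ⟶ X := fun k => (U k.down).hom
  have hcov : Presieve.ofArrows W w ∈ (Kf).coverings X := by
    have e : Presieve.ofArrows W w = Presieve.ofArrows (fun k => (U k).left) (fun k => (U k).hom) :=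
      le_antisymm (fun _ _ ⟨k⟩ => Presieve.ofArrows.mk k.down) (fun _ _ ⟨k⟩ => Presieve.ofArrows.mk (ULift.up k))
    rw [e]
    exact hcov₀
  have : ∀ k, IsAffine (W k) := fun k => haff k.down
  have : ∀ k, IsAffineHom (w k) := fun k => isAffineHom_of_isAffine (w k)
  let N : κ → BigSite.Mod Kf X := fun k => (BigSite.pushMod Kf (w k)).obj ((BigSite.pullMod Kf (w k)).obj M)
  let η : M ⟶ ⨁ N := biproduct.lift fun k => (BigSite.modAdj Kf (w k)).unit.app M
  have : Mono η := mono_of_cover w hcov M
  have hG : Adeq.adequateMod Kf X (⨁ N) := adequateMod_biproduct N fun k => adequateMod_pushPull (w k) M hM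
  let C : ShortComplex (BigSite.Mod Kf X) := ShortComplex.mk η (cokernel.π η) (cokernel.condition η)
  have hC : C.ShortExact := { exact := ShortComplex.exact_cokernel η }
  have hx : x.comp (Ext.mk₀ (T.map η)) (add_zero _) = 0 := by
    refine eq_zero_of_biproduct N _ fun k => ?_
    rw [Ext.comp_assoc_of_third_deg_zero, Ext.mk₀_comp_mk₀, ← Functor.map_comp, biproduct.lift_π]
    have hv : Van ((BigSite.toAbMod Kf (W k)).obj ((BigSite.pullMod Kf (w k)).obj M)) q :=
      fun V hV i h1 h2 => hq V.left ((BigSite.pullMod Kf V.hom).obj ((BigSite.pullMod Kf (w k)).obj M))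
        (adequateMod_pull' _ _ (adequateMod_pull' _ _ hM)) i h1 h2
    exact eq_zero_of_res_eq_zero (w k) q (T.obj M) _ hv (T.map ((BigSite.modAdj Kf (w k)).unit.app M)) x
      (hkill k.down)
  have hTC : (C.map T).ShortExact := hC.map_of_exact T
  obtain ⟨y, rfl⟩ := Ext.covariant_sequence_exact₁ _ hTC x hx rfl
  rcases Nat.eq_zero_or_pos q with rfl | hq0
  · let a : Spec Γ(X, ⊤) ⟶ X := X.isoSpec.inv
    let e : Over.mk a ≅ top X := Over.isoMk (asIso a) (Category.comp_id _)
    let s : BigSite.sectMod Kf C.X₃ (top X) := gl0 (T.obj C.X₃) y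
    obtain ⟨t, ht⟩ := sm_surjective_obj a C hC hM (rs C.X₃ e.hom s)
    let z : H Kf X (T.obj C.X₂) 0 := (gl0 (T.obj C.X₂)).symm (rs C.X₂ e.inv t)
    have hz : y = z.comp (Ext.mk₀ (C.map T).g) (add_zero 0) := by
      refine (gl0 (T.obj C.X₃)).injective (Eq.trans ?_ (gl_map (topTerminal X) (T.map C.g) z).symm)
      refine Eq.trans ?_ (congrArg (sap (T.map C.g) (top X)) (AddEquiv.apply_symm_apply _ _).symm)
      change s = sm C.g (top X) (rs C.X₂ e.inv t)
      rw [sm_rs, ht, ← rs_comp, Iso.inv_hom_id, rs_id]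
    rw [hz]
    exact (Ext.comp_assoc_of_second_deg_zero _ _ _ _).trans
      ((congrArg (fun e => z.comp e (zero_add 1)) hTC.comp_extClass).trans (Ext.comp_zero _ _ _ _ _))
  · have := hq X C.X₃ (adequateMod_cokernel η hM hG) q hq0 le_rfl
    have hy : y = 0 := this.elim _ _
    rw [hy]
    exact Ext.zero_comp _ _ _ _ _

theorem vanish : ∀ q, Vanish.{u} q
  | 0 => fun _ _ _ _ j h1 h2 => absurd h2 (by omega)
  | q + 1 => vanish_succ q (vanish q)

end Groth.Agent.AdeqCoh
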