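import Mathlib.Algebra.Homology.DerivedCategory.Ext.Map
import Mathlib.Algebra.Homology.DerivedCategory.Ext.EnoughInjectives
import Mathlib.CategoryTheory.Adjunction.Additive
import Mathlib.CategoryTheory.Adjunction.Limits
import Mathlib.CategoryTheory.Preadditive.Injective.Preserves

/-!
# Maps on `Ext` along an exact functor and comparison with its right adjoint
-/

universe w v₁ v₂ u₁ u₂

open CategoryTheory CategoryTheory.Limits

namespace Groth.Agent.AdeqCoh

variable {C : Type u₁} [Category.{v₁} C] [CategoryTheory.Abelian C] [HasExt.{w} C]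

open CategoryTheory.Abelian (Ext)

theorem Gen.comp_extClass_injective {A : C} {S : ShortComplex C} (hS : S.ShortExact) [Injective S.X₂]
    {n : ℕ} (hn : 1 ≤ n) (c : Ext A S.X₃ n) (hc : c.comp hS.extClass rfl = 0) : c = 0 := by
  obtain ⟨k, rfl⟩ : ∃ k, n = k + 1 := ⟨n - 1, by omega⟩
  obtain ⟨y, rfl⟩ := Ext.covariant_sequence_exact₃ _ hS c rfl hc
  rw [Ext.eq_zero_of_injective y, Ext.zero_comp]

theorem Gen.exists_eq_comp_extClass {A : C} {S : ShortComplex C} (hS : S.ShortExact) [Injective S.X₂]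
    {n : ℕ} (x : Ext A S.X₁ (n + 1)) : ∃ c : Ext A S.X₃ n, c.comp hS.extClass rfl = x :=
  Ext.covariant_sequence_exact₁ _ hS x (Ext.eq_zero_of_injective _) rfl

variable {D : Type u₂} [Category.{v₂} D] [CategoryTheory.Abelian D] [HasExt.{w} D]
  (L : C ⥤ D) [L.Additive] [PreservesFiniteLimits L] [PreservesFiniteColimits L]
  {A : C} {A' : D} (η : A' ⟶ L.obj A)

/-- Map an `Ext` class and precompose. -/
noncomputable def mapPre (F : C) (n : ℕ) : Ext A F n →+ Ext A' (L.obj F) n :=
  AddMonoidHom.mk' (fun x => (Ext.mk₀ η).comp (x.mapExactFunctor L) (zero_add n))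
    fun x y => by rw [Ext.mapExactFunctor_add, Ext.comp_add]

theorem mapPre_comp {F G : C} {a b n : ℕ} (x : Ext A F a) (e : Ext F G b) (h : a + b = n) :
    mapPre L η G n (x.comp e h) = (mapPre L η F a x).comp (e.mapExactFunctor L) h := by
  change (Ext.mk₀ η).comp ((x.comp e h).mapExactFunctor L) (zero_add n) =
    ((Ext.mk₀ η).comp (x.mapExactFunctor L) (zero_add a)).comp _ h
  rw [Ext.mapExactFunctor_comp]
  exact (Ext.comp_assoc _ _ _ (zero_add a) h (by omega)).symm

theorem mapPre_map {F G : C} (φ : F ⟶ G) {n : ℕ} (x : Ext A F n) :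
    mapPre L η G n (x.comp (Ext.mk₀ φ) (add_zero n)) =
      (mapPre L η F n x).comp (Ext.mk₀ (L.map φ)) (add_zero n) := by
  rw [mapPre_comp, Ext.mapExactFunctor_mk₀]

theorem mapPre_extClass {S : ShortComplex C} (hS : S.ShortExact) {n m : ℕ} (x : Ext A S.X₃ n) (h : n + 1 = m) :
    mapPre L η S.X₁ m (x.comp hS.extClass h) =
      (mapPre L η S.X₃ n x).comp (hS.map_of_exact L).extClass h := by
  rw [mapPre_comp, Ext.mapExactFunctor_extClass]
  rfl

theorem mapPre_mk₀ {F : C} (φ : A ⟶ F) : mapPre L η F 0 (Ext.mk₀ φ) = Ext.mk₀ (η ≫ L.map φ) := by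
  change (Ext.mk₀ η).comp ((Ext.mk₀ φ).mapExactFunctor L) (zero_add 0) = _
  rw [Ext.mapExactFunctor_mk₀, Ext.mk₀_comp_mk₀]

variable {R : D ⥤ C} (adj : L ⊣ R)

/-- The comparison map from `Ext` into a right adjoint. -/
noncomputable def cmp (G : D) (n : ℕ) : Ext A (R.obj G) n →+ Ext A' G n :=
  ((Ext.mk₀ (adj.counit.app G)).postcomp _ (add_zero n)).comp (mapPre L η (R.obj G) n)

theorem cmp_apply (G : D) (n : ℕ) (x : Ext A (R.obj G) n) :
    cmp L η adj G n x = (mapPre L η _ n x).comp (Ext.mk₀ (adj.counit.app G)) (add_zero n) := rfl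

theorem cmp_map {G G' : D} (φ : G ⟶ G') {n : ℕ} (x : Ext A (R.obj G) n) :
    cmp L η adj G' n (x.comp (Ext.mk₀ (R.map φ)) (add_zero n)) =
      (cmp L η adj G n x).comp (Ext.mk₀ φ) (add_zero n) := by
  simp only [cmp_apply, mapPre_map, Ext.comp_assoc_of_third_deg_zero, Ext.mk₀_comp_mk₀]
  exact congrArg (fun q => (mapPre L η _ n x).comp (Ext.mk₀ q) (add_zero n)) (adj.counit.naturality φ)

theorem cmp_injective_step [EnoughInjectives D] (h0 : ∀ G : D, Function.Bijective (cmp L η adj G 0)) (G : D) (n : ℕ)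
    (ih : 1 ≤ n → ∀ S : ShortComplex D, S.ShortExact → Injective S.X₂ → S.X₁ = G →
      Epi (R.map S.g) ∧ ∀ c : Ext A (R.obj S.X₃) n, cmp L η adj S.X₃ n c = 0 → c = 0)
    (x : Ext A (R.obj G) (n + 1)) (hx : cmp L η adj G (n + 1) x = 0) : x = 0 := by
  let S : ShortComplex D := ShortComplex.mk (Injective.ι G) (cokernel.π _) (cokernel.condition _)
  have hS : S.ShortExact := { exact := ShortComplex.exact_cokernel _ }
  have : R.Additive := adj.right_adjoint_additive
  have : PreservesLimitsOfSize.{0, 0} R := adj.rightAdjoint_preservesLimits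
  have : Mono (R.map S.f) := inferInstance
  have : R.PreservesInjectiveObjects :=
    Functor.preservesInjectiveObjects_of_adjunction_of_preservesMonomorphisms adj
  have : Injective S.X₂ := inferInstanceAs (Injective (Injective.under G))
  let S' : ShortComplex C := ShortComplex.mk (R.map S.f) (cokernel.π _) (cokernel.condition _)
  have hS' : S'.ShortExact := { exact := ShortComplex.exact_cokernel _ }
  have : Injective S'.X₂ := inferInstanceAs (Injective (R.obj (Injective.under G)))
  let m : S'.X₃ ⟶ R.obj S.X₃ := cokernel.desc _ (R.map S.g) (by rw [← R.map_comp, S.zero, R.map_zero])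
  have hm : cokernel.π _ ≫ m = R.map S.g := cokernel.π_desc _ _ _
  have : Mono m :=
    (S.map R).exact_iff_mono_cokernel_desc.1
      (hS.exact.map_of_mono_of_preservesKernel R hS.mono_f inferInstance)
  let τ : S'.map L ⟶ S :=
    { τ₁ := adj.counit.app S.X₁
      τ₂ := adj.counit.app S.X₂
      τ₃ := L.map m ≫ adj.counit.app S.X₃
      comm₁₂ := (adj.counit.naturality S.f).symm
      comm₂₃ := by
        change adj.counit.app S.X₂ ≫ S.g = L.map (cokernel.π _) ≫ L.map m ≫ _
        rw [← Functor.map_comp_assoc, hm]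
        exact (adj.counit.naturality S.g).symm }
  obtain ⟨c, rfl⟩ := Gen.exists_eq_comp_extClass hS' x
  let c' : Ext A (R.obj S.X₃) n := c.comp (Ext.mk₀ m) (add_zero n)
  have key : (cmp L η adj S.X₃ n c').comp hS.extClass rfl = 0 := by
    refine Eq.trans ?_ hx
    rw [cmp_apply, cmp_apply, mapPre_map, mapPre_extClass L η hS']
    rw [Ext.comp_assoc_of_third_deg_zero _ (Ext.mk₀ (L.map m)), Ext.mk₀_comp_mk₀]
    refine (Ext.comp_assoc _ _ _ (add_zero n) (zero_add 1) (by omega)).trans ?_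
    refine Eq.trans ?_ (Ext.comp_assoc _ _ _ rfl (add_zero 1) (by omega)).symm
    exact congrArg (fun e => (mapPre L η S'.X₃ n c).comp e rfl)
      (ShortComplex.ShortExact.extClass_naturality (hS'.map_of_exact L) hS τ).symm
  obtain ⟨y, hy⟩ := Ext.covariant_sequence_exact₃ _ hS _ rfl key
  rcases Nat.eq_zero_or_pos n with rfl | hn
  · obtain ⟨y', rfl⟩ := (h0 S.X₂).2 y
    have h1 : c' = y'.comp (Ext.mk₀ (R.map S.g)) (add_zero 0) :=
      (h0 S.X₃).1 (hy.symm.trans (cmp_map L η adj S.g y').symm)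
    have h2 : c = y'.comp (Ext.mk₀ S'.g) (add_zero 0) := by
      apply Ext.postcomp_mk₀_injective_of_mono (L := A) (f := m)
      change c' = (y'.comp (Ext.mk₀ S'.g) (add_zero 0)).comp (Ext.mk₀ m) (add_zero 0)
      rw [h1, Ext.comp_assoc_of_third_deg_zero, Ext.mk₀_comp_mk₀]
      exact congrArg (fun q => y'.comp (Ext.mk₀ q) (add_zero 0)) hm.symm
    rw [h2, Ext.comp_assoc_of_second_deg_zero, ShortComplex.ShortExact.comp_extClass, Ext.comp_zero]
  · have hy0 : cmp L η adj S.X₃ n c' = 0 := by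
      obtain ⟨k, rfl⟩ : ∃ k, n = k + 1 := ⟨n - 1, by omega⟩
      rw [← hy, Ext.eq_zero_of_injective y, Ext.zero_comp]
    obtain ⟨hepi, hinj⟩ := ih hn S hS inferInstance rfl
    have : Epi m := epi_of_epi_fac hm
    have : IsIso m := isIso_of_mono_of_epi m
    have hc : c = 0 := by
      have := congrArg (fun z : Ext A (R.obj S.X₃) n => z.comp (Ext.mk₀ (inv m)) (add_zero n)) (hinj c' hy0)
      simpa [c'] using this
    rw [hc, Ext.zero_comp]

end Groth.Agent.AdeqCoh
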