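import Groth.Agent.AdeqCoh.Generic
import Mathlib.Algebra.Category.ModuleCat.Presheaf.Sheafification
import Mathlib.Algebra.Category.ModuleCat.Sheaf.Abelian
import Mathlib.Algebra.Category.ModuleCat.Sheaf.Limits
import Mathlib.Algebra.Category.ModuleCat.Presheaf.EpiMono
import Mathlib.Algebra.Category.Grp.Abelian
import Mathlib.Algebra.Category.Grp.Adjunctions
import Mathlib.CategoryTheory.Sites.Abelian
import Mathlib.CategoryTheory.Sites.SheafCohomology.Basic
import Mathlib.CategoryTheory.Sites.ConstantSheaf
import Mathlib.RingTheory.Flat.TorsionFree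
import Mathlib.RingTheory.LocalRing.Module
import Mathlib.Algebra.Module.Torsion.Free
import Mathlib.Algebra.Homology.ShortComplex.Ab

/-!
# Injective sheaves of modules are acyclic against torsion-free abelian sheaves
-/

set_option backward.isDefEq.respectTransparency false

universe w v u u''

open CategoryTheory CategoryTheory.Limits Opposite TensorProduct
open CategoryTheory.Abelian (Ext)

namespace Groth.Agent.AdeqCoh

section General

variable {A : Type u} [Category.{v} A] [CategoryTheory.Abelian A] [EnoughInjectives A] [HasExt.{w} A]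

/-- Classes of positive degree are killed by an epimorphism. -/
theorem exists_epi_kills : ∀ (n : ℕ) (Q X : A) (x : Ext X Q (n + 1)),
    ∃ (X' : A) (p : X' ⟶ X), Epi p ∧ (Ext.mk₀ p).comp x (zero_add (n + 1)) = 0 := by
  intro n
  induction n with
  | zero =>
    intro Q X x
    let S : ShortComplex A := ShortComplex.mk (Injective.ι Q) (cokernel.π _) (cokernel.condition _)
    have hS : S.ShortExact := { exact := ShortComplex.exact_cokernel _ }
    have : Injective S.X₂ := inferInstanceAs (Injective (Injective.under Q))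
    obtain ⟨y, rfl⟩ := Gen.exists_eq_comp_extClass hS x
    obtain ⟨g, rfl⟩ := (Ext.mk₀_bijective _ _).2 y
    have := hS.epi_g
    refine ⟨pullback g S.g, pullback.fst _ _, Abelian.epi_pullback_of_epi_g _ _, ?_⟩
    rw [← Ext.comp_assoc_of_second_deg_zero, Ext.mk₀_comp_mk₀, pullback.condition, ← Ext.mk₀_comp_mk₀,
      Ext.comp_assoc_of_second_deg_zero, hS.comp_extClass, Ext.comp_zero]
  | succ n ih =>
    intro Q X x
    let S : ShortComplex A := ShortComplex.mk (Injective.ι Q) (cokernel.π _) (cokernel.condition _)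
    have hS : S.ShortExact := { exact := ShortComplex.exact_cokernel _ }
    have : Injective S.X₂ := inferInstanceAs (Injective (Injective.under Q))
    obtain ⟨y, rfl⟩ := Gen.exists_eq_comp_extClass hS x
    obtain ⟨X', p, hp, h⟩ := ih _ X y
    refine ⟨X', p, hp, ?_⟩
    rw [← Ext.comp_assoc _ _ _ (zero_add (n + 1)) rfl (by omega), h, Ext.zero_comp]

/-- Higher `Ext` vanishing from `Ext¹` on a covering class closed under kernels. -/
theorem subsingleton_ext_of_class (P : A → Prop) (F : A) (hcover : ∀ X, ∃ (Y : A) (p : Y ⟶ X), Epi p ∧ P Y)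
    (hker : ∀ {X Y : A} (p : Y ⟶ X), P Y → P (kernel p))
    (h1 : ∀ X, P X → Subsingleton (Ext X F 1)) (n : ℕ) :
    ∀ X, P X → Subsingleton (Ext X F (n + 1)) := by
  induction n with
  | zero => exact h1
  | succ n ih =>
    intro X _
    refine subsingleton_of_forall_eq 0 fun x => ?_
    obtain ⟨X', p, hp, h⟩ := exists_epi_kills (n + 1) F X x
    obtain ⟨Y, q, hq, hY⟩ := hcover X'
    let S : ShortComplex A := ShortComplex.mk (kernel.ι (q ≫ p)) (q ≫ p) (kernel.condition _)
    have hS : S.ShortExact :=
      { exact := ShortComplex.exact_of_f_is_kernel _ (kernelIsKernel (q ≫ p))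
        mono_f := inferInstanceAs (Mono (kernel.ι (q ≫ p)))
        epi_g := epi_comp' hq hp }
    obtain ⟨z, hz⟩ := Ext.contravariant_sequence_exact₃ hS F x (by
      change (Ext.mk₀ (q ≫ p)).comp x _ = 0
      rw [← Ext.mk₀_comp_mk₀, Ext.comp_assoc_of_second_deg_zero, h, Ext.comp_zero])
      (show 1 + (n + 1) = n + 1 + 1 by omega)
    rw [← hz, (ih _ (hker (q ≫ p) hY)).elim z 0, Ext.comp_zero]

variable {B : Type u''} [Category.{v} B] [CategoryTheory.Abelian B] [EnoughInjectives B] [HasExt.{w} B]
  {L : B ⥤ A} {R : A ⥤ B} [R.Additive] [R.PreservesInjectiveObjects]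
  [PreservesFiniteLimits R] [PreservesFiniteColimits R]

omit [EnoughInjectives B] in
/-- Transfer of vanishing along a right adjoint exact functor preserving injectives. -/
theorem subsingleton_ext_of_adj (adj : L ⊣ R) (X : B) : ∀ (n : ℕ) (G : A),
    (∀ m, 1 ≤ m → m ≤ n + 1 → Subsingleton (Ext (L.obj X) G m)) → Subsingleton (Ext X (R.obj G) (n + 1)) := by
  intro n
  induction n with
  | zero =>
    intro G hG
    let S : ShortComplex A := ShortComplex.mk (Injective.ι G) (cokernel.π _) (cokernel.condition _)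
    have hS : S.ShortExact := { exact := ShortComplex.exact_cokernel _ }
    have hSR := hS.map_of_exact R
    have : Injective (S.map R).X₂ := R.injective_obj_of_injective (Injective.injective_under G)
    refine subsingleton_of_forall_eq 0 fun x => ?_
    obtain ⟨y, rfl⟩ := Gen.exists_eq_comp_extClass hSR x
    obtain ⟨g, rfl⟩ := (Ext.mk₀_bijective _ _).2 y
    obtain ⟨a, ha⟩ := Ext.covariant_sequence_exact₃ _ hS (Ext.mk₀ ((adj.homEquiv X S.X₃).symm g)) (zero_add 1)
      ((hG 1 le_rfl le_rfl).elim _ _)
    obtain ⟨b, rfl⟩ := (Ext.mk₀_bijective _ _).2 a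
    rw [Ext.mk₀_comp_mk₀] at ha
    have hb : adj.homEquiv X S.X₂ b ≫ (S.map R).g = g := by
      rw [ShortComplex.map_g, ← adj.homEquiv_naturality_right, (Ext.mk₀_bijective _ _).1 ha,
        Equiv.apply_symm_apply]
    rw [← hb, ← Ext.mk₀_comp_mk₀, Ext.comp_assoc_of_second_deg_zero, hSR.comp_extClass, Ext.comp_zero]
  | succ n ih =>
    intro G hG
    let S : ShortComplex A := ShortComplex.mk (Injective.ι G) (cokernel.π _) (cokernel.condition _)
    have hS : S.ShortExact := { exact := ShortComplex.exact_cokernel _ }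
    have hSR := hS.map_of_exact R
    have : Injective S.X₂ := inferInstanceAs (Injective (Injective.under G))
    have : Injective (S.map R).X₂ := R.injective_obj_of_injective (Injective.injective_under G)
    refine subsingleton_of_forall_eq 0 fun x => ?_
    obtain ⟨y, rfl⟩ := Gen.exists_eq_comp_extClass hSR x
    have h' : ∀ m, 1 ≤ m → m ≤ n + 1 → Subsingleton (Ext (L.obj X) S.X₃ m) := fun m h1 h2 =>
      subsingleton_of_forall_eq 0 fun z =>
        Gen.comp_extClass_injective hS h1 z ((hG (m + 1) (by omega) (by omega)).elim _ _)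
    have : Subsingleton (Ext X (S.map R).X₃ (n + 1)) := ih S.X₃ h'
    rw [this.elim y 0, Ext.zero_comp]

end General

section Site

variable {C : Type u} [Category.{v} C] {J : GrothendieckTopology C}

/-- All groups of sections are torsion-free. -/
def TF (A : Sheaf J AddCommGrpCat.{w}) : Prop := ∀ W : Cᵒᵖ, IsAddTorsionFree (A.obj.obj W)

variable [HasSheafify J AddCommGrpCat.{w}]

theorem sheaf_app_injective {A B : Sheaf J AddCommGrpCat.{w}} (f : A ⟶ B) [Mono f] (W : Cᵒᵖ) :
    Function.Injective (f.hom.app W) :=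
  (AddCommGrpCat.mono_iff_injective _).1
    (((sheafToPresheaf J AddCommGrpCat.{w}) ⋙ (evaluation Cᵒᵖ AddCommGrpCat.{w}).obj W).map_mono f)

theorem tf_of_mono {A B : Sheaf J AddCommGrpCat.{w}} (f : A ⟶ B) [Mono f] (h : TF B) : TF A := fun W =>
  have := h W
  Function.Injective.isAddTorsionFree (f.hom.app W).hom (sheaf_app_injective f W)

theorem tf_presheafToSheaf (P : Cᵒᵖ ⥤ AddCommGrpCat.{w}) (h : ∀ W, IsAddTorsionFree (P.obj W)) :
    TF ((presheafToSheaf J AddCommGrpCat.{w}).obj P) := fun W => ⟨fun n hn => by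
  have : ∀ V, Mono ((n • 𝟙 P).app V) := fun V => by
    rw [AddCommGrpCat.mono_iff_injective]
    intro a b hab
    have := h V
    exact nsmul_right_injective hn hab
  have : Mono (n • 𝟙 P) := NatTrans.mono_of_mono_app _
  have h2 : Mono ((presheafToSheaf J AddCommGrpCat.{w}).map (n • 𝟙 P)) :=
    (presheafToSheaf J AddCommGrpCat.{w}).map_mono _
  rw [Functor.map_nsmul, CategoryTheory.Functor.map_id] at h2
  exact @sheaf_app_injective _ _ _ _ _ _ _ h2 W⟩

theorem tf_constantSheaf : TF ((constantSheaf J AddCommGrpCat.{w}).obj (AddCommGrpCat.of (ULift.{w} ℤ))) :=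
  tf_presheafToSheaf _ fun _ => by
    change IsAddTorsionFree (ULift.{w} ℤ)
    exact Function.Injective.isAddTorsionFree (AddEquiv.ulift : ULift.{w} ℤ ≃+ ℤ).toAddMonoidHom
      (AddEquiv.ulift : ULift.{w} ℤ ≃+ ℤ).injective

theorem exists_tf_cover (X : Sheaf J AddCommGrpCat.{w}) :
    ∃ (Y : Sheaf J AddCommGrpCat.{w}) (p : Y ⟶ X), Epi p ∧ TF Y := by
  let adj := (AddCommGrpCat.adj.whiskerRight Cᵒᵖ).comp (sheafificationAdjunction J AddCommGrpCat.{w})
  refine ⟨_, adj.counit.app X, ?_, tf_presheafToSheaf _ fun W =>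
    let e := FreeAbelianGroup.equivFinsupp ((X.obj.obj W : Type w))
    Function.Injective.isAddTorsionFree e.toAddMonoidHom e.injective⟩
  have : (sheafToPresheaf J AddCommGrpCat.{w} ⋙
      (Functor.whiskeringRight Cᵒᵖ _ _).obj (forget AddCommGrpCat.{w})).Faithful := inferInstance
  exact adj.counit_epi_of_R_faithful X

section Scalars

variable (R : Sheaf J RingCat.{w})

/-- Restriction maps of `R ⊗ P`. -/
noncomputable def otRes (P : Cᵒᵖ ⥤ AddCommGrpCat.{w}) {X Y : Cᵒᵖ} (f : X ⟶ Y) :
    R.obj.obj X ⊗[ℤ] P.obj X →ₛₗ[(R.obj.map f).hom] R.obj.obj Y ⊗[ℤ] P.obj Y where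
  toFun := TensorProduct.map (R.obj.map f).hom.toAddMonoidHom.toIntLinearMap
    (P.map f).hom.toIntLinearMap
  map_add' := map_add _
  map_smul' r x := by
    induction x using TensorProduct.induction_on with
    | zero => simp
    | tmul s p =>
      change (R.obj.map f).hom (r * s) ⊗ₜ[ℤ] (P.map f).hom p =
        ((R.obj.map f).hom r * (R.obj.map f).hom s) ⊗ₜ[ℤ] (P.map f).hom p
      rw [map_mul]
    | add a b ha hb => rw [smul_add, map_add, ha, hb, map_add, smul_add]

/-- `W ↦ R(W) ⊗ P(W)`. -/
noncomputable def ot (P : Cᵒᵖ ⥤ AddCommGrpCat.{w}) : PresheafOfModules.{w} R.obj where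
  obj W := ModuleCat.of (R.obj.obj W) (R.obj.obj W ⊗[ℤ] P.obj W)
  map {X Y} f := ModuleCat.semilinearMapAddEquiv _ _ _ (otRes R P f)
  map_id X := by
    refine ModuleCat.hom_ext (LinearMap.ext fun (x : R.obj.obj X ⊗[ℤ] P.obj X) => ?_)
    induction x using TensorProduct.induction_on with
    | zero => exact (map_zero _).trans (map_zero _).symm
    | tmul s p =>
      change (R.obj.map (𝟙 X)).hom s ⊗ₜ[ℤ] (P.map (𝟙 X)).hom p = s ⊗ₜ[ℤ] p
      simp
    | add a b ha hb => exact (map_add _ a b).trans ((congrArg₂ (· + ·) ha hb).trans (map_add _ a b).symm)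
  map_comp {X Y Z} f g := by
    refine ModuleCat.hom_ext (LinearMap.ext fun (x : R.obj.obj X ⊗[ℤ] P.obj X) => ?_)
    induction x using TensorProduct.induction_on with
    | zero => exact (map_zero _).trans (map_zero _).symm
    | tmul s p =>
      change (R.obj.map (f ≫ g)).hom s ⊗ₜ[ℤ] (P.map (f ≫ g)).hom p =
        (R.obj.map g).hom ((R.obj.map f).hom s) ⊗ₜ[ℤ] (P.map g).hom ((P.map f).hom p)
      simp
    | add a b ha hb => exact (map_add _ a b).trans ((congrArg₂ (· + ·) ha hb).trans (map_add _ a b).symm)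

/-- `ot` on morphisms. -/
noncomputable def otMap {P Q : Cᵒᵖ ⥤ AddCommGrpCat.{w}} (a : P ⟶ Q) : ot R P ⟶ ot R Q where
  app W := ModuleCat.ofHom
    { toFun := (a.app W).hom.toIntLinearMap.lTensor (R.obj.obj W)
      map_add' := map_add _
      map_smul' := fun r x => by
        induction x using TensorProduct.induction_on with
        | zero => simp
        | tmul s p => rfl
        | add u v hu hv => simp only [smul_add, map_add, hu, hv] }
  naturality {X Y} f := by
    ext (x : R.obj.obj X ⊗[ℤ] P.obj X)
    induction x using TensorProduct.induction_on with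
    | zero => exact (map_zero _).trans (map_zero _).symm
    | tmul s p =>
      exact congrArg ((R.obj.map f).hom s ⊗ₜ[ℤ] ·) (NatTrans.naturality_apply a f p)
    | add u v hu hv =>
      exact (map_add _ u v).trans ((congrArg₂ (· + ·) hu hv).trans (map_add _ u v).symm)

/-- `p ↦ 1 ⊗ p`. -/
noncomputable def otUnit (P : Cᵒᵖ ⥤ AddCommGrpCat.{w}) : P ⟶ (ot R P).presheaf where
  app W := AddCommGrpCat.ofHom
    { toFun := fun p => ((1 : R.obj.obj W) ⊗ₜ[ℤ] p)
      map_zero' := tmul_zero _ _
      map_add' := fun a b => tmul_add _ a b }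
  naturality {X Y} f := by
    ext p
    exact congrArg (· ⊗ₜ[ℤ] (P.map f).hom p) (map_one (R.obj.map f).hom).symm

theorem otUnit_naturality {P Q : Cᵒᵖ ⥤ AddCommGrpCat.{w}} (a : P ⟶ Q) :
    otUnit R P ≫ (PresheafOfModules.toPresheaf _).map (otMap R a) = a ≫ otUnit R Q := by
  ext W p
  rfl

variable {R}

/-- The linear extension of an additive map. -/
noncomputable def liftAdd {W : Cᵒᵖ} {P : Type w} [AddCommGroup P] {N : Type w} [AddCommGroup N]
    [Module (R.obj.obj W) N] (a : P →+ N) : R.obj.obj W ⊗[ℤ] P →ₗ[R.obj.obj W] N where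
  toFun := TensorProduct.liftAddHom
    { toFun := fun r => (smulAddHom (R.obj.obj W) N r).comp a
      map_zero' := by ext; simp
      map_add' := fun r s => by ext; simp [add_smul] }
    (fun n r p => by
      change (n • r) • a p = r • a (n • p)
      rw [map_zsmul, smul_assoc, smul_comm])
  map_add' := map_add _
  map_smul' r x := by
    induction x using TensorProduct.induction_on with
    | zero => simp
    | tmul s p => simp [TensorProduct.smul_tmul', mul_smul]
    | add u v hu hv => simp only [smul_add, map_add, hu, hv]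

/-- Maps into a presheaf of modules extend linearly. -/
noncomputable def otDesc {P : Cᵒᵖ ⥤ AddCommGrpCat.{w}} {N : PresheafOfModules.{w} R.obj}
    (a : P ⟶ N.presheaf) : ot R P ⟶ N where
  app W := ModuleCat.ofHom (liftAdd (R := R) (N := N.obj W) (show P.obj W →+ N.obj W from (a.app W).hom))
  naturality {X Y} f := by
    ext (x : R.obj.obj X ⊗[ℤ] P.obj X)
    induction x using TensorProduct.induction_on with
    | zero => exact (map_zero _).trans (map_zero _).symm
    | tmul s p =>
      change (R.obj.map f).hom s • (show N.obj Y from (a.app Y).hom ((P.map f).hom p)) =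
        N.map f (s • (show N.obj X from (a.app X).hom p))
      refine Eq.trans ?_ (N.map_smul f s _).symm
      exact congrArg ((R.obj.map f).hom s • ·) (NatTrans.naturality_apply a f p)
    | add u v hu hv =>
      exact (map_add _ u v).trans ((congrArg₂ (· + ·) hu hv).trans (map_add _ u v).symm)

theorem otUnit_desc {P : Cᵒᵖ ⥤ AddCommGrpCat.{w}} {N : PresheafOfModules.{w} R.obj} (a : P ⟶ N.presheaf) :
    otUnit R P ≫ (PresheafOfModules.toPresheaf _).map (otDesc a) = a := by
  ext W p
  exact one_smul (R.obj.obj W) (show N.obj W from (a.app W).hom p)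

variable [J.WEqualsLocallyBijective AddCommGrpCat.{w}]

/-- Maps into an injective module extend along maps which stay injective after extending scalars. -/
theorem exists_ext_injective (I : SheafOfModules.{w} R) [Injective I] {P Q : Cᵒᵖ ⥤ AddCommGrpCat.{w}}
    (a : P ⟶ Q) (ha : ∀ W, Function.Injective ((a.app W).hom.toIntLinearMap.lTensor (R.obj.obj W)))
    (b : P ⟶ I.val.presheaf) : ∃ c : Q ⟶ I.val.presheaf, a ≫ c = b := by
  let adj := PresheafOfModules.sheafificationAdjunction.{w} (𝟙 R.obj)
  let L := PresheafOfModules.sheafification.{w} (𝟙 R.obj)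
  have : Mono (otMap R a) := PresheafOfModules.mono_of_injective fun {W} => ha W
  have : Mono (L.map (otMap R a)) := L.map_mono _
  let h : ot R Q ⟶ I.val := adj.homEquiv _ _
    (Injective.factorThru ((adj.homEquiv _ _).symm (otDesc b)) (L.map (otMap R a)))
  have hh : otMap R a ≫ h = otDesc b := by
    refine (adj.homEquiv_naturality_left _ _).symm.trans ?_
    rw [Injective.comp_factorThru]
    exact Equiv.apply_symm_apply _ _
  refine ⟨otUnit R Q ≫ (PresheafOfModules.toPresheaf _).map h, ?_⟩
  rw [← Category.assoc, ← otUnit_naturality, Category.assoc, ← Functor.map_comp, hh, otUnit_desc]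

theorem lTensor_injective_of_tf (T : Type w) [AddCommGroup T] {X Y Z : Type w} [AddCommGroup X] [AddCommGroup Y]
    [AddCommGroup Z] [Module.Flat ℤ Z] {f : X →ₗ[ℤ] Y} {g : Y →ₗ[ℤ] Z} (hfg : Function.Exact f g)
    (hf : Function.Injective f) (hg : Function.Surjective g) : Function.Injective (f.lTensor T) := by
  let p : (T →₀ ℤ) →ₗ[ℤ] T := Finsupp.linearCombination ℤ id
  have hp : Function.Surjective p := fun t => ⟨Finsupp.single t 1, by simp [p]⟩
  exact lTensor_injective_of_exact_of_exact_of_rTensor_injective (LinearMap.exact_subtype_ker_map p) hp hfg hg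
    (Module.Flat.rTensor_preserves_injective_linearMap _ (Submodule.injective_subtype _))
    (Module.Flat.lTensor_preserves_injective_linearMap f hf)

/-- Extensions of torsion-free sheaves by an injective module split. -/
theorem exists_retraction (I : SheafOfModules.{w} R) [Injective I] {E A : Sheaf J AddCommGrpCat.{w}}
    (ι : (SheafOfModules.toSheaf R).obj I ⟶ E) (π : E ⟶ A) (z : ι ≫ π = 0)
    (hS : (ShortComplex.mk ι π z).ShortExact) (hA : TF A) :
    ∃ r : E ⟶ (SheafOfModules.toSheaf R).obj I, ι ≫ r = 𝟙 _ := by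
  have := hS.mono_f
  have hexact : ∀ W : Cᵒᵖ, Function.Exact (ι.hom.app W).hom.toIntLinearMap
      (π.hom.app W).hom.toIntLinearMap.rangeRestrict := fun W e => by
    have h := hS.exact.map_of_mono_of_preservesKernel
      (sheafToPresheaf J AddCommGrpCat.{w} ⋙ (evaluation Cᵒᵖ AddCommGrpCat.{w}).obj W)
      hS.mono_f inferInstance
    rw [ShortComplex.ab_exact_iff] at h
    constructor
    · intro he
      obtain ⟨x, hx⟩ := h e (congrArg Subtype.val he)
      exact ⟨x, hx⟩
    · rintro ⟨x, rfl⟩
      exact Subtype.ext (congrArg (fun φ => φ.hom.app W x) z)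
  have hinj : ∀ W, Function.Injective ((ι.hom.app W).hom.toIntLinearMap.lTensor (R.obj.obj W)) := fun W => by
    have := hA W
    have : IsAddTorsionFree (LinearMap.range (π.hom.app W).hom.toIntLinearMap) :=
      Function.Injective.isAddTorsionFree (LinearMap.range _).subtype.toAddMonoidHom
        (Submodule.injective_subtype _)
    exact lTensor_injective_of_tf _ (hexact W) (sheaf_app_injective ι W) (LinearMap.surjective_rangeRestrict _)
  obtain ⟨c, hc⟩ := exists_ext_injective I ι.hom hinj (𝟙 _)
  exact ⟨⟨c⟩, Sheaf.hom_ext hc⟩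

variable [EnoughInjectives (Sheaf J AddCommGrpCat.{w})] [HasExt.{w} (Sheaf J AddCommGrpCat.{w})]

set_option maxHeartbeats 800000 in
/-- Injective modules have no higher `Ext` from torsion-free abelian sheaves. -/
theorem subsingleton_ext_injMod (I : SheafOfModules.{w} R) [Injective I] {A : Sheaf J AddCommGrpCat.{w}}
    (hA : TF A) (n : ℕ) : Subsingleton (Ext A ((SheafOfModules.toSheaf R).obj I) (n + 1)) := by
  refine subsingleton_ext_of_class (A := Sheaf J AddCommGrpCat.{w}) TF ((SheafOfModules.toSheaf R).obj I)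
    (fun X => exists_tf_cover X) (fun {X Y} p h => tf_of_mono (kernel.ι p) h) ?_ n A hA
  intro B hB
  let G := (SheafOfModules.toSheaf R).obj I
  let T : ShortComplex (Sheaf J AddCommGrpCat.{w}) :=
    ShortComplex.mk (Injective.ι G) (cokernel.π _) (cokernel.condition _)
  have hT : T.ShortExact := { exact := ShortComplex.exact_cokernel _ }
  have : Injective T.X₂ := inferInstanceAs (Injective (Injective.under G))
  refine subsingleton_of_forall_eq 0 fun x => ?_
  obtain ⟨y, rfl⟩ := Gen.exists_eq_comp_extClass hT x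
  obtain ⟨g, rfl⟩ := (Ext.mk₀_bijective _ _).2 y
  have := hT.epi_g
  have := hT.mono_f
  let ι : G ⟶ pullback g T.g := pullback.lift 0 T.f (by rw [zero_comp, T.zero])
  have z : ι ≫ pullback.fst g T.g = 0 := pullback.lift_fst _ _ _
  have hm : Mono ι := mono_of_mono_fac (pullback.lift_snd _ _ _ : ι ≫ pullback.snd g T.g = T.f)
  have hex : (ShortComplex.mk ι (pullback.fst g T.g) z).Exact := by
    refine ShortComplex.exact_of_f_is_kernel _ (KernelFork.IsLimit.ofι' _ _ fun {Z} t ht => ?_)
    refine ⟨hT.exact.lift (t ≫ pullback.snd g T.g) ?_, pullback.hom_ext ?_ ?_⟩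
    · rw [Category.assoc, ← pullback.condition, ← Category.assoc, ht, zero_comp]
    · rw [Category.assoc, z, comp_zero, ht]
    · rw [Category.assoc, pullback.lift_snd, ShortComplex.Exact.lift_f]
  have he : Epi (pullback.fst g T.g) := Abelian.epi_pullback_of_epi_g _ _
  obtain ⟨r, hr⟩ := exists_retraction I ι (pullback.fst g T.g) z
    { exact := hex, mono_f := hm, epi_g := he } hB
  let σ := ShortComplex.Splitting.ofExactOfRetraction _ hex r hr he
  have hg : (σ.s ≫ pullback.snd g T.g) ≫ T.g = g := by
    rw [Category.assoc, ← pullback.condition, ← Category.assoc]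
    exact (congrArg (· ≫ g) σ.s_g).trans (Category.id_comp _)
  rw [← hg, ← Ext.mk₀_comp_mk₀, Ext.comp_assoc_of_second_deg_zero, hT.comp_extClass, Ext.comp_zero]

end Scalars

end Site

end Groth.Agent.AdeqCoh
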