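import Groth.Agent.AdeqCoh.InjMod
import Groth.Agent.AdeqCoh.Affine

/-!
# Injective and adequate modules are acyclic on affine objects of the big fppf site
-/

set_option backward.isDefEq.respectTransparency false

universe u

open CategoryTheory CategoryTheory.Limits AlgebraicGeometry Opposite DirectSum
open CategoryTheory.Abelian (Ext)

namespace Groth.Agent.AdeqCoh

open BigSite (Ab pullBig pushBig H HU sect)

/-- The big fppf site. -/
local notation "Kf" => Scheme.fppfPrecoverage

variable {X : Scheme.{u}}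

theorem tf_ext {W : Scheme.{u}} (w : W ⟶ X) (P : (Over W)ᵒᵖ ⥤ AddCommGrpCat.{u + 1})
    (h : ∀ V, IsAddTorsionFree (P.obj V)) (V : (Over X)ᵒᵖ) :
    IsAddTorsionFree (((BigShriek.ext.{u + 1} w).obj P).obj V) := by
  change IsAddTorsionFree (⨁ φ : BigShriek.Lift w V.unop, BigShriek.Val.{u + 1} P V.unop φ)
  have : ∀ φ : BigShriek.Lift w V.unop, IsAddTorsionFree (BigShriek.Val.{u + 1} P V.unop φ) := fun φ => h _
  exact Function.Injective.isAddTorsionFree
    (N := Π φ : BigShriek.Lift w V.unop, BigShriek.Val.{u + 1} P V.unop φ)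
    ({ toFun := fun x φ => x φ, map_zero' := rfl, map_add' := fun _ _ => rfl } :
      (⨁ φ : BigShriek.Lift w V.unop, BigShriek.Val.{u + 1} P V.unop φ) →+ Π φ, BigShriek.Val.{u + 1} P V.unop φ)
    DFunLike.coe_injective

/-- Injective modules are acyclic on every object. -/
theorem subsingleton_HU_injective (I : BigSite.Mod Kf X) [Injective I] (U : Over X) (n : ℕ) :
    Subsingleton (HU Kf ((BigSite.toAbMod Kf X).obj I) (n + 1) U) := by
  refine subsingleton_ext_of_adj (BigShriek.shriekAdj Kf U.hom) _ n _ fun m h1 _ => ?_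
  obtain ⟨m, rfl⟩ : ∃ k, m = k + 1 := ⟨m - 1, by omega⟩
  exact subsingleton_ext_injMod.{u + 1} (J := QuotSh.J Kf X) (R := BigSite.ORing Kf X) I (tf_presheafToSheaf.{u + 1} _ (tf_ext U.hom _ (tf_constantSheaf.{u + 1} (J := QuotSh.J Kf U.left)))) m

/-- Modules without higher cohomology on affine objects. -/
def AffAcy (X : Scheme.{u}) : ObjectProperty (BigSite.Mod Kf X) := fun M =>
  ∀ n, Van ((BigSite.toAbMod Kf X).obj M) n

theorem affAcy_injective (I : BigSite.Mod Kf X) (hI : Injective I) : AffAcy X I := fun _ U _ j h1 _ => by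
  obtain ⟨m, rfl⟩ : ∃ k, j = k + 1 := ⟨j - 1, by omega⟩
  exact subsingleton_HU_injective I U m

theorem affAcy_adequate (M : BigSite.Mod Kf X) (hM : Adeq.adequateMod Kf X M) : AffAcy X M :=
  fun _ U hU j h1 _ => vanish j U.left ((BigSite.pullMod Kf U.hom).obj M) (adequateMod_pull' U.hom M hM) j h1 le_rfl

theorem affAcy_coker (S : ShortComplex (BigSite.Mod Kf X)) (hS : S.ShortExact) (h₁ : AffAcy X S.X₁)
    (h₂ : AffAcy X S.X₂) : AffAcy X S.X₃ := by
  intro n U hU j h1 _
  have hSU := (hS.map_of_exact (BigSite.toAbMod Kf X)).map_of_exact (pullBig Kf U.hom AddCommGrpCat.{u + 1})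
  refine subsingleton_of_forall_eq 0 fun c => ?_
  obtain ⟨y, hy⟩ := Ext.covariant_sequence_exact₃ _ hSU c rfl ((h₁ (j + 1) U hU (j + 1) (by omega) le_rfl).elim _ _)
  have := h₂ j U hU j h1 le_rfl
  rw [← hy, this.elim y 0]
  exact Ext.zero_comp _ _ _ _ _

theorem sm_surjective_of_affAcy (S : ShortComplex (BigSite.Mod Kf X)) (hS : S.ShortExact) (h : AffAcy X S.X₁)
    (U : Over X) (hU : IsAffine U.left) : Function.Surjective (AdeqSite.sm S.g U) :=
  exists_sap_eq (hS.map_of_exact (BigSite.toAbMod Kf X)) U (h 1 U hU 1 le_rfl le_rfl)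

end Groth.Agent.AdeqCoh

namespace Groth.Agent.AdeqCoh

/-- Sections of an injective module extend along monomorphisms. -/
theorem rs_surjective_of_injective {X : Scheme.{u}} (I : BigSite.Mod Scheme.fppfPrecoverage X) [Injective I]
    {U V : Over X} (j : V ⟶ U) [Mono j] : Function.Surjective (AdeqSite.rs I j) := by
  classical
  intro s
  let hy : Over X → ((Over X)ᵒᵖ ⥤ Type (u + 1)) := fun V => yoneda.obj V ⋙ uliftFunctor.{u + 1, u}
  let F : Over X → ((Over X)ᵒᵖ ⥤ AddCommGrpCat.{u + 1}) := fun V => hy V ⋙ AddCommGrpCat.free.{u + 1}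
  let jt : hy V ⟶ hy U := Functor.whiskerRight (yoneda.map j) uliftFunctor.{u + 1, u}
  let a : F V ⟶ F U := Functor.whiskerRight jt AddCommGrpCat.free.{u + 1}
  let toPre : ((Over X)ᵒᵖ ⥤ AddCommGrpCat.{u + 1}) ⥤ ((Over X)ᵒᵖ ⥤ Type (u + 1)) :=
    (Functor.whiskeringRight _ _ _).obj (forget AddCommGrpCat.{u + 1})
  let adj := AddCommGrpCat.adj.{u + 1}.whiskerRight (Over X)ᵒᵖ
  let b₀ : hy V ⟶ toPre.obj I.val.presheaf :=
    { app := fun W => TypeCat.ofHom fun h => AdeqSite.rs I h.down s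
      naturality := fun W W' g => by
        ext h
        exact AdeqSite.rs_comp I _ _ s }
  let b : F V ⟶ I.val.presheaf := (adj.homEquiv _ _).symm b₀
  have ha : ∀ W, Function.Injective
      ((a.app W).hom.toIntLinearMap.lTensor ((BigSite.ORing Scheme.fppfPrecoverage X).obj.obj W)) := fun W => by
    let A := ULift.{u + 1} (W.unop ⟶ V)
    let B := ULift.{u + 1} (W.unop ⟶ U)
    let f : A → B := fun h => ⟨h.down ≫ j⟩
    have hf : Function.Injective f := fun x y h =>
      ULift.ext _ _ ((cancel_mono j).1 (congrArg ULift.down h))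
    let r : FreeAbelianGroup B →+ FreeAbelianGroup A := FreeAbelianGroup.lift fun y =>
      if h : ∃ x, f x = y then FreeAbelianGroup.of h.choose else 0
    have hr : ∀ x : FreeAbelianGroup A, r ((a.app W).hom x) = x := by
      intro x
      have e : r.comp (show FreeAbelianGroup A →+ FreeAbelianGroup B from (a.app W).hom) = AddMonoidHom.id _ := by
        refine FreeAbelianGroup.lift_ext _ _ fun y => ?_
        change r (FreeAbelianGroup.map f (FreeAbelianGroup.of y)) = FreeAbelianGroup.of y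
        rw [FreeAbelianGroup.map_of_apply, FreeAbelianGroup.lift_apply_of, dif_pos ⟨y, rfl⟩]
        exact congrArg FreeAbelianGroup.of (hf (⟨y, rfl⟩ : ∃ x, f x = f y).choose_spec)
      exact DFunLike.congr_fun e x
    have hinj : ∀ (T : Type (u + 1)) [AddCommGroup T] {X₁ X₂ : Type (u + 1)} [AddCommGroup X₁] [AddCommGroup X₂]
        (g : X₁ →+ X₂) (g' : X₂ →+ X₁), (∀ x, g' (g x) = x) → Function.Injective (g.toIntLinearMap.lTensor T) :=
      fun T _ X₁ X₂ _ _ g g' h => Function.LeftInverse.injective (g := g'.toIntLinearMap.lTensor T) fun x => by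
        rw [← LinearMap.lTensor_comp_apply,
          (LinearMap.ext h : g'.toIntLinearMap.comp g.toIntLinearMap = LinearMap.id), LinearMap.lTensor_id,
          LinearMap.id_apply]
    exact hinj _ (a.app W).hom r hr
  obtain ⟨c, hc⟩ := exists_ext_injective.{u + 1} (J := QuotSh.J Scheme.fppfPrecoverage X)
    (R := BigSite.ORing Scheme.fppfPrecoverage X) I a ha b
  let c₀ : hy U ⟶ toPre.obj I.val.presheaf := adj.homEquiv _ _ c
  refine ⟨c₀.app (op U) ⟨𝟙 U⟩, ?_⟩
  have h1 : jt ≫ c₀ = b₀ := by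
    refine (adj.homEquiv_naturality_left _ _).symm.trans ?_
    exact (congrArg (adj.homEquiv _ _) hc).trans (Equiv.apply_symm_apply _ _)
  have h2 := CategoryTheory.congr_fun (c₀.naturality j.op) (⟨𝟙 U⟩ : ULift.{u + 1} (U ⟶ U))
  have h3 : c₀.app (op V) (jt.app (op V) ⟨𝟙 V⟩) = b₀.app (op V) ⟨𝟙 V⟩ := by
    rw [← h1]
    rfl
  refine h2.symm.trans ?_
  refine Eq.trans ?_ (h3.trans (AdeqSite.rs_id I s))
  change c₀.app (op V) ⟨j ≫ 𝟙 U⟩ = c₀.app (op V) ⟨𝟙 V ≫ j⟩
  rw [Category.comp_id, Category.id_comp]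

end Groth.Agent.AdeqCoh
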