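import Groth.Agent.AdeqCoh.Site
import Groth.Agent.AdeqSite.Exact
import Mathlib.CategoryTheory.Sites.EpiMono

/-!
# Cohomology classes of positive degree are killed by affine fppf coverings
-/

set_option backward.isDefEq.respectTransparency false

universe u

open CategoryTheory CategoryTheory.Limits AlgebraicGeometry Opposite
open CategoryTheory.Abelian (Ext)

namespace Groth.Agent.AdeqCoh

open BigSite (Ab pullBig H sect)
open Groth.Agent.AdeqLib Groth.Agent.AdeqSite

/-- The big fppf site. -/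
local notation "Kf" => Scheme.fppfPrecoverage

theorem mem_fppf_comp_iso {κ : Type u} {W : κ → Scheme.{u}} {X Y : Scheme.{u}} (w : ∀ k, W k ⟶ X) (e : X ⟶ Y)
    [IsIso e] (h : Presieve.ofArrows W w ∈ (Kf).coverings X) :
    Presieve.ofArrows W (fun k => w k ≫ e) ∈ (Kf).coverings Y := by
  change _ ∈ Scheme.precoverage (@Flat ⊓ @LocallyOfFinitePresentation) _ at h ⊢
  rw [Scheme.ofArrows_mem_precoverage_iff] at h ⊢
  refine ⟨fun y => ?_, fun k => ⟨?_, ?_⟩⟩
  · obtain ⟨k, z, hz⟩ := h.1 (inv e y)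
    refine ⟨k, z, ?_⟩
    rw [Scheme.Hom.comp_apply, hz, ← Scheme.Hom.comp_apply, IsIso.inv_hom_id]
    rfl
  · have := (h.2 k).1
    exact inferInstanceAs (Flat (w k ≫ e))
  · have := (h.2 k).2
    exact inferInstanceAs (LocallyOfFinitePresentation (w k ≫ e))

theorem exists_family_top (X : Scheme.{u}) [IsAffine X] (T : Sieve (top X))
    (hT : T ∈ QuotSh.J Kf X (top X)) :
    ∃ (κ : Type u) (_ : Finite κ) (U : κ → Over X) (g : ∀ k, U k ⟶ top X),
      (∀ k, IsAffine (U k).left) ∧
      Presieve.ofArrows (fun k => (U k).left) (fun k => (U k).hom) ∈ (Kf).coverings X ∧ ∀ k, T (g k) := by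
  let a : Spec Γ(X, ⊤) ⟶ X := X.isoSpec.inv
  let h : baseObj a ⟶ top X := (topTerminal X).from _
  obtain ⟨κ, hκ, R₀, alg, hcov, hmem⟩ :=
    exists_family_of_mem_fppf a (T.pullback h) ((QuotSh.J Kf X).pullback_stable h hT)
  let R' : κ → Type u := fun k => (R₀ k : Type u)
  let B₀ : Adeq.Alg Γ(X, ⊤) := Adeq.algOf Γ(X, ⊤) Γ(X, ⊤)
  refine ⟨κ, hκ, fun k => obj a (bcAlg R' k B₀), fun k => hom a (Adeq.Alg.unit _ (R' k) B₀) ≫ h,
    fun k => inferInstanceAs (IsAffine (Spec _)), ?_, hmem⟩
  have : IsIso (baseObj a).hom := by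
    change IsIso (Spec.map (CommRingCat.ofHom (RingHom.id _)) ≫ a)
    rw [CommRingCat.ofHom_id, Spec.map_id, Category.id_comp]
    infer_instance
  have hw : (fun k => (obj a (bcAlg R' k B₀)).hom) =
      fun k => (hom a (Adeq.Alg.unit _ (R' k) B₀)).left ≫ (baseObj a).hom :=
    funext fun k => (Over.w (hom a (Adeq.Alg.unit _ (R' k) B₀))).symm
  rw [hw]
  exact mem_fppf_comp_iso _ _ (cover_baseChange a R' hcov B₀)

theorem topMap_eq {X : Scheme.{u}} {U : Over X} (g : U ⟶ top X) : topMap U.hom = (topIso U).hom ≫ g :=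
  (topTerminal X).hom_ext _ _

/-- Classes of positive degree on affine schemes die on an affine covering. -/
theorem exists_kill : ∀ (n : ℕ) (X : Scheme.{u}) [IsAffine X] (F : Ab Kf X) (x : H Kf X F (n + 1)),
    ∃ (κ : Type u) (_ : Finite κ) (U : κ → Over X),
      (∀ k, IsAffine (U k).left) ∧
      Presieve.ofArrows (fun k => (U k).left) (fun k => (U k).hom) ∈ (Kf).coverings X ∧
      ∀ k, res (U k).hom F (n + 1) x = 0 := by
  intro n
  induction n with
  | zero =>
    intro X _ F x
    let S : ShortComplex (Ab Kf X) := ShortComplex.mk (Injective.ι F) (cokernel.π _) (cokernel.condition _)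
    have hS : S.ShortExact := { exact := ShortComplex.exact_cokernel _ }
    have : Injective S.X₂ := inferInstanceAs (Injective (Injective.under F))
    obtain ⟨c, rfl⟩ := Gen.exists_eq_comp_extClass hS x
    have : Epi S.g := inferInstanceAs (Epi (cokernel.π _))
    have hls : Sheaf.IsLocallySurjective S.g := (Sheaf.isLocallySurjective_iff_epi' _ _).2 this
    obtain ⟨κ, hκ, U, g, haff, hcov, hmem⟩ :=
      exists_family_top X _ (hls.imageSieve_mem (gl0 S.X₃ c))
    refine ⟨κ, hκ, U, haff, hcov, fun k => ?_⟩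
    obtain ⟨t, ht⟩ := hmem k
    refine (mapPre_extClass _ _ hS c rfl).trans ?_
    let P := pullBig Kf (U k).hom AddCommGrpCat.{u + 1}
    let y : H Kf (U k).left (P.obj S.X₂) 0 := (gl0 (P.obj S.X₂)).symm (srs S.X₂ (topIso (U k)).hom t)
    have hy : res (U k).hom S.X₃ 0 c = y.comp (Ext.mk₀ (P.map S.g)) (add_zero 0) := by
      refine (gl0 (P.obj S.X₃)).injective ((gl_res (U k).hom S.X₃ c).trans ?_)
      refine Eq.trans ?_ (gl_map (topTerminal (U k).left) (P.map S.g) y).symm
      refine Eq.trans ?_ (congrArg (sap (P.map S.g) (top (U k).left)) (AddEquiv.apply_symm_apply _ _).symm)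
      refine Eq.trans ?_ (sap_srs S.g (topIso (U k)).hom t).symm
      rw [topMap_eq (g k)]
      refine (CategoryTheory.congr_fun (S.X₃.obj.map_comp (g k).op (topIso (U k)).hom.op) _).trans ?_
      exact congrArg _ ht.symm
    have hSP := hS.map_of_exact P
    change (res (U k).hom S.X₃ 0 c).comp hSP.extClass rfl = 0
    rw [hy]
    refine (Ext.comp_assoc_of_second_deg_zero _ _ _ _).trans ?_
    refine (congrArg (fun e => y.comp e (zero_add 1)) hSP.comp_extClass).trans ?_
    exact Ext.comp_zero _ _ _ _ _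
  | succ n ih =>
    intro X _ F x
    let S : ShortComplex (Ab Kf X) := ShortComplex.mk (Injective.ι F) (cokernel.π _) (cokernel.condition _)
    have hS : S.ShortExact := { exact := ShortComplex.exact_cokernel _ }
    have : Injective S.X₂ := inferInstanceAs (Injective (Injective.under F))
    obtain ⟨c, rfl⟩ := Gen.exists_eq_comp_extClass hS x
    obtain ⟨κ, hκ, U, haff, hcov, hkill⟩ := ih X S.X₃ c
    refine ⟨κ, hκ, U, haff, hcov, fun k => (mapPre_extClass _ _ hS c rfl).trans ?_⟩
    let P := pullBig Kf (U k).hom AddCommGrpCat.{u + 1}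
    have hSP := hS.map_of_exact P
    change (res (U k).hom S.X₃ (n + 1) c).comp hSP.extClass rfl = 0
    rw [hkill k]
    exact Ext.zero_comp _ _ _ _ _

end Groth.Agent.AdeqCoh
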