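import Groth.Agent.AdeqCoh.Phi

/-!
# Mayer–Vietoris for the cohomology of modules over opens of a base change
-/

set_option backward.isDefEq.respectTransparency false

universe u v₁ v₂ u₁ u₂

open CategoryTheory CategoryTheory.Limits AlgebraicGeometry Opposite
open scoped ZeroObject

namespace Groth.Agent.AdeqCoh

open Groth.Agent.AdeqLib Groth.Agent.AdeqSite

/-- A property closed under the operations of a five term exact sequence. -/
structure Closed {A : Type u₁} [Category.{v₁} A] [CategoryTheory.Abelian A] (Q : ObjectProperty A) : Prop where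
  of_iso : ∀ {X Y : A} (_ : X ≅ Y), Q X → Q Y
  kernel : ∀ {X Y : A} (φ : X ⟶ Y), Q X → Q Y → Q (kernel φ)
  cokernel : ∀ {X Y : A} (φ : X ⟶ Y), Q X → Q Y → Q (cokernel φ)
  ext : ∀ (S : ShortComplex A), S.ShortExact → Q S.X₁ → Q S.X₃ → Q S.X₂

theorem Closed.middle {A : Type u₁} [Category.{v₁} A] [CategoryTheory.Abelian A] {Q : ObjectProperty A}
    (hQ : Closed Q) {X₁ X₂ X₃ X₄ X₅ : A} (f₁ : X₁ ⟶ X₂) (f₂ : X₂ ⟶ X₃) (f₃ : X₃ ⟶ X₄) (f₄ : X₄ ⟶ X₅)
    (w₁ : f₁ ≫ f₂ = 0) (w₂ : f₂ ≫ f₃ = 0) (w₃ : f₃ ≫ f₄ = 0)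
    (h₁ : (ShortComplex.mk f₁ f₂ w₁).Exact) (h₂ : (ShortComplex.mk f₂ f₃ w₂).Exact)
    (h₃ : (ShortComplex.mk f₃ f₄ w₃).Exact)
    (q₁ : Q X₁) (q₂ : Q X₂) (q₄ : Q X₄) (q₅ : Q X₅) : Q X₃ := by
  let c : Limits.cokernel f₁ ⟶ X₃ := cokernel.desc f₁ f₂ w₁
  let k : X₃ ⟶ Limits.kernel f₄ := kernel.lift f₄ f₃ w₃
  have hc : Mono c := (ShortComplex.exact_iff_mono_cokernel_desc _).1 h₁
  have hk : Epi k := (ShortComplex.exact_iff_epi_kernel_lift _).1 h₃
  have w : c ≫ k = 0 := by
    rw [← cancel_epi (cokernel.π f₁), ← cancel_mono (Limits.kernel.ι f₄)]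
    simp [c, k, w₂]
  have hex : (ShortComplex.mk c k w).Exact := by
    let φ : ShortComplex.mk f₂ k (by rw [← cancel_mono (Limits.kernel.ι f₄)]; simp [k, w₂]) ⟶
        ShortComplex.mk f₂ f₃ w₂ :=
      { τ₁ := 𝟙 _, τ₂ := 𝟙 _, τ₃ := Limits.kernel.ι f₄, comm₁₂ := by simp, comm₂₃ := by simp [k] }
    have : IsIso φ.τ₂ := inferInstanceAs (IsIso (𝟙 _))
    have : Epi φ.τ₁ := inferInstanceAs (Epi (𝟙 _))
    have : Mono φ.τ₃ := inferInstanceAs (Mono (Limits.kernel.ι f₄))
    have h2' := (ShortComplex.exact_iff_of_epi_of_isIso_of_mono φ).2 h₂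
    let ψ : ShortComplex.mk f₂ k (by rw [← cancel_mono (Limits.kernel.ι f₄)]; simp [k, w₂]) ⟶
        ShortComplex.mk c k w :=
      { τ₁ := cokernel.π f₁, τ₂ := 𝟙 _, τ₃ := 𝟙 _, comm₁₂ := by simp [c], comm₂₃ := by simp }
    have : IsIso ψ.τ₂ := inferInstanceAs (IsIso (𝟙 _))
    have : Epi ψ.τ₁ := inferInstanceAs (Epi (cokernel.π f₁))
    have : Mono ψ.τ₃ := inferInstanceAs (Mono (𝟙 _))
    exact (ShortComplex.exact_iff_of_epi_of_isIso_of_mono ψ).1 h2'
  exact hQ.ext (ShortComplex.mk c k w) { exact := hex, mono_f := hc, epi_g := hk }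
    (hQ.cokernel f₁ q₁ q₂) (hQ.kernel f₄ q₄ q₅)

/-- The big fppf site. -/
local notation "Kf" => Scheme.fppfPrecoverage

variable {T P : Scheme.{u}} {R : CommRingCat.{u}} (p : P ⟶ Spec R) (q : P ⟶ T) {M : BigSite.Mod Kf T}
  (res : InjectiveResolution M)

/-- The complex of sections of a resolution over `g : Y → P`. -/
noncomputable def phiCx {Y : Scheme.{u}} (g : Y ⟶ P) : CochainComplex (Adeq.MVF R) ℕ :=
  ((Phi p q g).mapHomologicalComplex _).obj res.cocomplex

/-- The restriction maps of complexes. -/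
noncomputable def cxMap {Y Y' : Scheme.{u}} {g : Y ⟶ P} {g' : Y' ⟶ P} (e : Y' ⟶ Y) (he : e ≫ g = g') :
    phiCx p q res g ⟶ phiCx p q res g' :=
  (NatTrans.mapHomologicalComplex (phiMap p q e he) _).app res.cocomplex

theorem epi_cxMap {Y Y' : Scheme.{u}} {g : Y ⟶ P} {g' : Y' ⟶ P} (e : Y' ⟶ Y) (he : e ≫ g = g')
    [IsOpenImmersion e] : Epi (cxMap p q res e he) := by
  have : ∀ i, Epi ((cxMap p q res e he).f i) := fun i => epi_phiMap p q e he (res.cocomplex.X i)
  exact HomologicalComplex.epi_of_epi_f _ this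

section Glue

variable {YX YU YV YW : Scheme.{u}} {gX : YX ⟶ P} {gU : YU ⟶ P} {gV : YV ⟶ P} {gW : YW ⟶ P}
  (eU : YU ⟶ YX) (eV : YV ⟶ YX) (dU : YW ⟶ YU) (dV : YW ⟶ YV)
  (heU : eU ≫ gX = gU) (heV : eV ≫ gX = gV) (hdU : dU ≫ gU = gW) (hdV : dV ≫ gV = gW)
  (sq : IsPullback dU dV eU eV) [IsOpenImmersion eU] [IsOpenImmersion eV]
  (hcov : ∀ y : ↥YX, y ∈ Set.range eU ∨ y ∈ Set.range eV)

include sq in
theorem wMap_comm (B : Adeq.Alg R) :
    wMap p q dU hdU B ≫ wMap p q eU heU B = wMap p q dV hdV B ≫ wMap p q eV heV B := by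
  refine Over.OverMorphism.ext (pullback.hom_ext ?_ ?_)
  · change ((wMap p q dU hdU B).left ≫ (wMap p q eU heU B).left) ≫ _ = ((wMap p q dV hdV B).left ≫ _) ≫ _
    rw [Category.assoc, Category.assoc, wMap_fst, wMap_fst, wMap_fst, wMap_fst]
  · change ((wMap p q dU hdU B).left ≫ (wMap p q eU heU B).left) ≫ _ = ((wMap p q dV hdV B).left ≫ _) ≫ _
    rw [Category.assoc, Category.assoc, wMap_snd, wMap_snd, ← Category.assoc, ← Category.assoc,
      wMap_snd, wMap_snd, Category.assoc, Category.assoc, sq.w]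

include sq in
theorem isPullback_glue (B : Adeq.Alg R) :
    IsPullback (wMap p q dU hdU B).left (wMap p q dV hdV B).left (wMap p q eU heU B).left
      (wMap p q eV heV B).left := by
  refine IsPullback.of_bot ?_ (congrArg CommaMorphism.left (wMap_comm p q eU eV dU dV heU heV hdU hdV sq B))
    (isPullback_wMap p q eV heV B)
  rw [wMap_snd, wMap_snd]
  exact (isPullback_wMap p q dU hdU B).paste_vert sq

include hcov in
theorem cover_glue (B : Adeq.Alg R) :
    Presieve.ofArrows (fun b : ULift.{u + 1} Bool => (cond b.down (wObj p q gU B) (wObj p q gV B)).left)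
      (fun b => (match b with
        | ⟨true⟩ => wMap p q eU heU B
        | ⟨false⟩ => wMap p q eV heV B : cond b.down (wObj p q gU B) (wObj p q gV B) ⟶ wObj p q gX B).left) ∈
      (Kf).coverings (wObj p q gX B).left := by
  refine Scheme.zariskiPrecoverage_le_fppfPrecoverage _ ((Scheme.ofArrows_mem_precoverage_iff _).2 ⟨fun x => ?_, ?_⟩)
  · rcases hcov (pullback.snd (obj (𝟙 (Spec R)) B).hom (gX ≫ p) x) with ⟨y, hy⟩ | ⟨y, hy⟩
    · obtain ⟨z, hz, -⟩ := Scheme.Pullback.exists_preimage_pullback (f := pullback.snd (obj (𝟙 (Spec R)) B).hom (gX ≫ p))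
        (g := eU) x y hy.symm
      refine ⟨⟨true⟩, (isPullback_wMap p q eU heU B).isoPullback.inv z, ?_⟩
      change (wMap p q eU heU B).left _ = x
      rw [← Scheme.Hom.comp_apply, IsPullback.isoPullback_inv_fst]
      exact hz
    · obtain ⟨z, hz, -⟩ := Scheme.Pullback.exists_preimage_pullback (f := pullback.snd (obj (𝟙 (Spec R)) B).hom (gX ≫ p))
        (g := eV) x y hy.symm
      refine ⟨⟨false⟩, (isPullback_wMap p q eV heV B).isoPullback.inv z, ?_⟩
      change (wMap p q eV heV B).left _ = x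
      rw [← Scheme.Hom.comp_apply, IsPullback.isoPullback_inv_fst]
      exact hz
  · rintro ⟨_ | _⟩
    · exact isOpenImmersion_wMap p q eV heV B
    · exact isOpenImmersion_wMap p q eU heU B

include heU heV hdU hdV sq hcov in
theorem exists_glue₂ (I : BigSite.Mod Kf T) (B : Adeq.Alg R) (yU : BigSite.sectMod Kf I (wObj p q gU B))
    (yV : BigSite.sectMod Kf I (wObj p q gV B))
    (h : rs I (wMap p q dU hdU B) yU = rs I (wMap p q dV hdV B) yV) :
    ∃ t, rs I (wMap p q eU heU B) t = yU ∧ rs I (wMap p q eV heV B) t = yV := by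
  let V : ULift.{u + 1} Bool → Over T := fun b => cond b.down (wObj p q gU B) (wObj p q gV B)
  let f : ∀ b, V b ⟶ wObj p q gX B := fun b => match b with
    | ⟨true⟩ => wMap p q eU heU B
    | ⟨false⟩ => wMap p q eV heV B
  let y : ∀ b, BigSite.sectMod Kf I (V b) := fun b => match b with
    | ⟨true⟩ => yU
    | ⟨false⟩ => yV
  let W : ULift.{u + 1} Bool → ULift.{u + 1} Bool → Over T := fun i j =>
    Over.mk (pullback.fst (f i).left (f j).left ≫ (V i).hom)
  let a : ∀ i j, W i j ⟶ V i := fun i j => Over.homMk (pullback.fst _ _) rfl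
  let b : ∀ i j, W i j ⟶ V j := fun i j => Over.homMk (pullback.snd _ _) (by
    change pullback.snd _ _ ≫ _ = pullback.fst _ _ ≫ _
    rw [← Over.w (f i), ← Over.w (f j), ← Category.assoc, ← Category.assoc]
    exact congrArg (· ≫ (wObj p q gX B).hom) pullback.condition.symm)
  have hfab : ∀ i j, a i j ≫ f i = b i j ≫ f j := fun i j => Over.OverMorphism.ext pullback.condition
  have hmixed : ∀ {W' : Over T} (a' : W' ⟶ wObj p q gU B) (b' : W' ⟶ wObj p q gV B),
      a' ≫ wMap p q eU heU B = b' ≫ wMap p q eV heV B → rs I a' yU = rs I b' yV := fun {W'} a' b' e => by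
    have sqB := isPullback_glue p q eU eV dU dV heU heV hdU hdV sq B
    let l : W' ⟶ wObj p q gW B := Over.homMk (sqB.lift a'.left b'.left (congrArg CommaMorphism.left e)) (by
      rw [← Over.w (wMap p q dU hdU B), ← Category.assoc, sqB.lift_fst]
      exact Over.w a')
    have e1 : l ≫ wMap p q dU hdU B = a' := Over.OverMorphism.ext (sqB.lift_fst _ _ _)
    have e2 : l ≫ wMap p q dV hdV B = b' := Over.OverMorphism.ext (sqB.lift_snd _ _ _)
    rw [← e1, ← e2, rs_comp, rs_comp, h]
  obtain ⟨t, ht, -⟩ := exists_unique_glue I V f (cover_glue p q eU eV heU heV hcov B) W a b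
    (fun i j => IsPullback.of_hasPullback _ _) y (fun i j => by
      rcases i with ⟨_ | _⟩ <;> rcases j with ⟨_ | _⟩
      · have := isOpenImmersion_wMap p q eV heV B
        have : Mono (wMap p q eV heV B) := (Over.forget T).mono_of_mono_map (inferInstanceAs (Mono (wMap p q eV heV B).left))
        exact congrArg (fun m => rs I m yV) ((cancel_mono (wMap p q eV heV B)).1 (hfab ⟨false⟩ ⟨false⟩))
      · exact (hmixed _ _ (hfab ⟨false⟩ ⟨true⟩).symm).symm
      · exact hmixed _ _ (hfab ⟨true⟩ ⟨false⟩)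
      · have := isOpenImmersion_wMap p q eU heU B
        have : Mono (wMap p q eU heU B) := (Over.forget T).mono_of_mono_map (inferInstanceAs (Mono (wMap p q eU heU B).left))
        exact congrArg (fun m => rs I m yU) ((cancel_mono (wMap p q eU heU B)).1 (hfab ⟨true⟩ ⟨true⟩)))
  exact ⟨t, ht ⟨true⟩, ht ⟨false⟩⟩

include hcov in
theorem eq_zero_glue₂ (I : BigSite.Mod Kf T) (B : Adeq.Alg R) (t : BigSite.sectMod Kf I (wObj p q gX B))
    (hU : rs I (wMap p q eU heU B) t = 0) (hV : rs I (wMap p q eV heV B) t = 0) : t = 0 :=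
  eq_zero_of_cover I (fun b : ULift.{u + 1} Bool => cond b.down (wObj p q gU B) (wObj p q gV B))
    (fun b => match b with
      | ⟨true⟩ => wMap p q eU heU B
      | ⟨false⟩ => wMap p q eV heV B)
    (cover_glue p q eU eV heU heV hcov B) t (fun b => by
      rcases b with ⟨_ | _⟩
      · exact hV
      · exact hU)

include sq in
theorem cxMap_comm :
    cxMap p q res eU heU ≫ cxMap p q res dU hdU = cxMap p q res eV heV ≫ cxMap p q res dV hdV := by
  refine HomologicalComplex.hom_ext _ _ fun i => mvf_ext fun B x => ?_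
  change rs (res.cocomplex.X i) (wMap p q dU hdU B) (rs (res.cocomplex.X i) (wMap p q eU heU B) x) =
    rs (res.cocomplex.X i) (wMap p q dV hdV B) (rs (res.cocomplex.X i) (wMap p q eV heV B) x)
  rw [← rs_comp, ← rs_comp, wMap_comm p q eU eV dU dV heU heV hdU hdV sq B]

/-- The values of complexes of module-valued functors. -/
noncomputable abbrev evCx (i : ℕ) (B : Adeq.Alg R) : CochainComplex (Adeq.MVF R) ℕ ⥤ ModuleCat.{u + 1} B :=
  HomologicalComplex.eval _ _ i ⋙ PresheafOfModules.evaluation.{u + 1} (Adeq.ringOf R) (Adeq.pt B)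

include hcov sq in
theorem isIso_kernelMap :
    IsIso (kernel.map (cxMap p q res eV heV) (cxMap p q res dU hdU) (cxMap p q res eU heU) (cxMap p q res dV hdV)
      (cxMap_comm p q res eU eV dU dV heU heV hdU hdV sq).symm) := by
  set m := kernel.map (cxMap p q res eV heV) (cxMap p q res dU hdU) (cxMap p q res eU heU) (cxMap p q res dV hdV)
    (cxMap_comm p q res eU eV dU dV heU heV hdU hdV sq).symm
  have hm : m ≫ kernel.ι _ = kernel.ι _ ≫ cxMap p q res eU heU := kernel.lift_ι _ _ _
  suffices ∀ i, IsIso (m.f i) from HomologicalComplex.Hom.isIso_of_components m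
  intro i
  have hB : ∀ B : Adeq.Alg R, Function.Bijective ((evCx i B).map m) := fun B => by
    let E := evCx i B
    have : HasFiniteLimits (Adeq.MVF R) := inferInstance
    have : PreservesFiniteLimits (PresheafOfModules.evaluation.{u + 1} (Adeq.ringOf R) (Adeq.pt B)) :=
      PresheafOfModules.evaluation_preservesFiniteLimits _ _
    have : PreservesFiniteLimits E := comp_preservesFiniteLimits _ _
    have hι : ∀ {X Y : CochainComplex (Adeq.MVF R) ℕ} (φ : X ⟶ Y), Function.Injective (E.map (kernel.ι φ)) :=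
      fun φ => (ModuleCat.mono_iff_injective _).1 inferInstance
    have hker : ∀ {X Y : CochainComplex (Adeq.MVF R) ℕ} (φ : X ⟶ Y) (x : E.obj X), E.map φ x = 0 →
        ∃ k, E.map (kernel.ι φ) k = x := fun {X Y} φ =>
      (ShortComplex.moduleCat_exact_iff _).1
        ((ShortComplex.exact_kernel φ).map_of_mono_of_preservesKernel E inferInstance inferInstance)
    have h0 : ∀ {X Y : CochainComplex (Adeq.MVF R) ℕ} (φ : X ⟶ Y) (k), E.map φ (E.map (kernel.ι φ) k) = 0 :=
      fun φ k => by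
        rw [← ConcreteCategory.comp_apply, ← E.map_comp, kernel.condition, E.map_zero]
        rfl
    refine ⟨(injective_iff_map_eq_zero (E.map m).hom).2 fun k hk => ?_, fun k' => ?_⟩
    · refine hι _ (Eq.trans ?_ (map_zero _).symm)
      refine eq_zero_glue₂ p q eU eV heU heV hcov (res.cocomplex.X i) B _ ?_ (h0 _ k)
      change E.map (cxMap p q res eU heU) (E.map (kernel.ι _) k) = 0
      rw [← ConcreteCategory.comp_apply, ← E.map_comp, ← hm, E.map_comp, ConcreteCategory.comp_apply, hk,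
        map_zero]
    · obtain ⟨t, htU, htV⟩ := exists_glue₂ p q eU eV dU dV heU heV hdU hdV sq hcov (res.cocomplex.X i) B
        (E.map (kernel.ι _) k') 0 ((h0 _ k').trans (map_zero _).symm)
      obtain ⟨k, hk⟩ := hker (cxMap p q res eV heV) t htV
      refine ⟨k, hι _ ?_⟩
      rw [← ConcreteCategory.comp_apply, ← E.map_comp, hm, E.map_comp, ConcreteCategory.comp_apply, hk]
      exact htU
  have : Mono (m.f i) := PresheafOfModules.mono_of_injective fun {X} => (hB X.unop.unop).1
  have : Epi (m.f i) := PresheafOfModules.epi_of_surjective fun {X} => (hB X.unop.unop).2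
  exact isIso_of_mono_of_epi _

include hcov sq heU heV hdU hdV in
/-- Mayer–Vietoris: closed properties of the cohomology of `U`, `V`, `U ∩ V` pass to `U ∪ V`. -/
theorem homology_prop_of_glue [IsOpenImmersion dU] {Q : ObjectProperty (Adeq.MVF R)} (hQ : Closed Q)
    (h0 : Q 0) (hU : ∀ n, Q ((phiCx p q res gU).homology n)) (hV : ∀ n, Q ((phiCx p q res gV).homology n))
    (hW : ∀ n, Q ((phiCx p q res gW).homology n)) (n : ℕ) : Q ((phiCx p q res gX).homology n) := by
  have := isIso_kernelMap p q res eU eV dU dV heU heV hdU hdV sq hcov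
  have := epi_cxMap p q res dU hdU
  have := epi_cxMap p q res eV heV
  let SU : ShortComplex (CochainComplex (Adeq.MVF R) ℕ) :=
    ShortComplex.mk (kernel.ι (cxMap p q res dU hdU)) (cxMap p q res dU hdU) (kernel.condition _)
  let SX : ShortComplex (CochainComplex (Adeq.MVF R) ℕ) :=
    ShortComplex.mk (kernel.ι (cxMap p q res eV heV)) (cxMap p q res eV heV) (kernel.condition _)
  have hSU : SU.ShortExact :=
    { exact := ShortComplex.exact_kernel _, mono_f := inferInstanceAs (Mono (kernel.ι _)), epi_g := ‹_› }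
  have hSX : SX.ShortExact :=
    { exact := ShortComplex.exact_kernel _, mono_f := inferInstanceAs (Mono (kernel.ι _)), epi_g := ‹_› }
  have hK : ∀ n, Q (SU.X₁.homology n) := fun n => by
    rcases n with _ | n
    · have : Mono (HomologicalComplex.homologyMap SU.f 0) :=
        have := hSU.mono_f
        HomologicalComplex.mono_homologyMap_of_mono_of_not_rel SU.f 0 (by simp)
      exact hQ.middle (0 : (0 : Adeq.MVF R) ⟶ 0) 0 (HomologicalComplex.homologyMap SU.f 0)
        (HomologicalComplex.homologyMap SU.g 0) (by simp) (by simp)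
        (by rw [← HomologicalComplex.homologyMap_comp, SU.zero, HomologicalComplex.homologyMap_zero])
        (ShortComplex.exact_of_isZero_X₂ _ (isZero_zero _))
        ((ShortComplex.exact_iff_mono _ (rfl)).2 ‹_›) (hSU.homology_exact₂ 0) h0 h0 (hU 0) (hW 0)
    · exact hQ.middle (HomologicalComplex.homologyMap SU.g n) (hSU.δ n (n + 1) rfl)
        (HomologicalComplex.homologyMap SU.f (n + 1)) (HomologicalComplex.homologyMap SU.g (n + 1))
        (hSU.comp_δ n (n + 1) rfl) (hSU.δ_comp n (n + 1) rfl)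
        (by rw [← HomologicalComplex.homologyMap_comp, SU.zero, HomologicalComplex.homologyMap_zero])
        (hSU.homology_exact₃ n (n + 1) rfl) (hSU.homology_exact₁ n (n + 1) rfl) (hSU.homology_exact₂ (n + 1))
        (hU n) (hW n) (hU (n + 1)) (hW (n + 1))
  let κ := asIso (kernel.map (cxMap p q res eV heV) (cxMap p q res dU hdU) (cxMap p q res eU heU)
    (cxMap p q res dV hdV) (cxMap_comm p q res eU eV dU dV heU heV hdU hdV sq).symm)
  have hKX : ∀ n, Q (SX.X₁.homology n) := fun n =>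
    hQ.of_iso ((HomologicalComplex.homologyFunctor _ _ n).mapIso κ).symm (hK n)
  rcases n with _ | n
  · have : Mono (HomologicalComplex.homologyMap SX.f 0) :=
      have := hSX.mono_f
      HomologicalComplex.mono_homologyMap_of_mono_of_not_rel SX.f 0 (by simp)
    exact hQ.middle (0 : (0 : Adeq.MVF R) ⟶ SX.X₁.homology 0) (HomologicalComplex.homologyMap SX.f 0)
      (HomologicalComplex.homologyMap SX.g 0) (hSX.δ 0 1 rfl) (by simp)
      (by rw [← HomologicalComplex.homologyMap_comp, SX.zero, HomologicalComplex.homologyMap_zero])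
      (hSX.comp_δ 0 1 rfl)
      ((ShortComplex.exact_iff_mono _ rfl).2 ‹_›) (hSX.homology_exact₂ 0) (hSX.homology_exact₃ 0 1 rfl)
      h0 (hKX 0) (hV 0) (hKX 1)
  · exact hQ.middle (hSX.δ n (n + 1) rfl) (HomologicalComplex.homologyMap SX.f (n + 1))
      (HomologicalComplex.homologyMap SX.g (n + 1)) (hSX.δ (n + 1) (n + 2) rfl)
      (hSX.δ_comp n (n + 1) rfl)
      (by rw [← HomologicalComplex.homologyMap_comp, SX.zero, HomologicalComplex.homologyMap_zero])
      (hSX.comp_δ (n + 1) (n + 2) rfl)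
      (hSX.homology_exact₁ n (n + 1) rfl) (hSX.homology_exact₂ (n + 1)) (hSX.homology_exact₃ (n + 1) (n + 2) rfl)
      (hV n) (hKX (n + 1)) (hV (n + 1)) (hKX (n + 2))

end Glue

end Groth.Agent.AdeqCoh
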