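import Groth.Agent.AdeqCoh.MV
import Groth.Agent.RDerLES
import Groth.Agent.ModShf.AcyclicRes

/-!
# Cohomology of adequate modules over compact opens of a quasi-separated base change
-/

set_option backward.isDefEq.respectTransparency false

universe u v v' w w'

open CategoryTheory CategoryTheory.Limits AlgebraicGeometry Opposite
open scoped ZeroObject

namespace Groth.Agent.AdeqCoh

open Groth.Agent.AdeqLib Groth.Agent.AdeqSite

section Good

variable {B : Type w} [Category.{v} B] [CategoryTheory.Abelian B] [HasInjectiveResolutions B]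
  {D : Type w'} [Category.{v'} D] [CategoryTheory.Abelian D] (F : B ⥤ D) [F.Additive] [PreservesFiniteLimits F]
  {Q : ObjectProperty B}

/-- The objects of a good class are acyclic. -/
theorem isZero_rightDerived_of_goodClass (hP : ModShf.AcyclicRes.GoodClass F Q) :
    ∀ (k : ℕ) (X : B), Q X → IsZero ((F.rightDerived (k + 1)).obj X) := by
  intro k
  induction k with
  | zero =>
    intro X hX
    let I := injectiveResolution X
    let S : ShortComplex B := ShortComplex.mk (I.ι.f 0) (cokernel.π _) (cokernel.condition _)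
    have : Mono S.f := inferInstanceAs (Mono (I.ι.f 0))
    have hS : S.ShortExact := { exact := ShortComplex.exact_cokernel _, mono_f := ‹_›, epi_g := inferInstanceAs (Epi (cokernel.π _)) }
    have : Injective S.X₂ := inferInstanceAs (Injective (I.cocomplex.X 0))
    have he : Epi (F.map S.g) := hP.epi S hS hX
    have : Epi ((F.rightDerived 0).map S.g) :=
      ((MorphismProperty.epimorphisms D).arrow_mk_iso_iff
        (Arrow.isoMk (F.rightDerivedZeroIsoSelf.app S.X₂) (F.rightDerivedZeroIsoSelf.app S.X₃)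
          (F.rightDerivedZeroIsoSelf.hom.naturality S.g).symm :
          Arrow.mk ((F.rightDerived 0).map S.g) ≅ Arrow.mk (F.map S.g))).2 he
    let Δ := Groth.Agent.RDerLES.derivedLES F
    have hδ : Δ.δ S hS 0 1 rfl = 0 := by
      rw [← cancel_epi ((F.rightDerived 0).map S.g), comp_zero]
      exact Δ.comp_δ S hS 0 1 rfl
    exact (Δ.exact₁ S hS 0 1 rfl).isZero_of_both_zeros hδ
      ((F.isZero_rightDerived_obj_injective_succ 0 S.X₂).eq_of_tgt _ _)
  | succ k ih =>
    intro X hX
    let I := injectiveResolution X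
    let S : ShortComplex B := ShortComplex.mk (I.ι.f 0) (cokernel.π _) (cokernel.condition _)
    have : Mono S.f := inferInstanceAs (Mono (I.ι.f 0))
    have hS : S.ShortExact := { exact := ShortComplex.exact_cokernel _, mono_f := ‹_›, epi_g := inferInstanceAs (Epi (cokernel.π _)) }
    have : Injective S.X₂ := inferInstanceAs (Injective (I.cocomplex.X 0))
    have hQ : Q S.X₃ := hP.coker S hS hX (hP.of_injective S.X₂ inferInstance)
    exact ((Groth.Agent.RDerLES.derivedLES F).exact₁ S hS (k + 1) (k + 1 + 1) rfl).isZero_of_both_zeros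
      ((ih _ hQ).eq_of_src _ _) ((F.isZero_rightDerived_obj_injective_succ (k + 1) S.X₂).eq_of_tgt _ _)

end Good

/-- The big fppf site. -/
local notation "Kf" => Scheme.fppfPrecoverage

variable {T P : Scheme.{u}} {R : CommRingCat.{u}} (p : P ⟶ Spec R) (q : P ⟶ T)

theorem goodClass_phi {Y : Scheme.{u}} [IsAffine Y] (g : Y ⟶ P) :
    ModShf.AcyclicRes.GoodClass (Phi p q g) (AffAcy T) where
  of_injective I hI := affAcy_injective I hI
  coker S hS h₁ h₂ := affAcy_coker S hS h₁ h₂
  epi S hS h₁ := PresheafOfModules.epi_of_surjective fun {X} => by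
    have : IsAffine (wObj p q g X.unop.unop).left := by
      change IsAffine (pullback (obj (𝟙 (Spec R)) X.unop.unop).hom (g ≫ p))
      have : IsAffine (obj (𝟙 (Spec R)) X.unop.unop).left := inferInstanceAs (IsAffine (Spec _))
      exact isAffine_of_isAffineHom (pullback.fst (obj (𝟙 (Spec R)) X.unop.unop).hom (g ≫ p))
    exact sm_surjective_of_affAcy S hS h₁ (wObj p q g X.unop.unop) this

variable [HasInjectiveResolutions (BigSite.Mod Kf T)] {M : BigSite.Mod Kf T} (res : InjectiveResolution M)

theorem prop_affine {Y : Scheme.{u}} [IsAffine Y] (g : Y ⟶ P) (hM : Adeq.adequateMod Kf T M)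
    {Q : ObjectProperty (Adeq.MVF R)} (hQ : Closed Q) (h0 : Q 0) (hY : Q ((Phi p q g).obj M)) (n : ℕ) :
    Q ((phiCx p q res g).homology n) := by
  refine hQ.of_iso (res.isoRightDerivedObj (Phi p q g) n) ?_
  rcases n with _ | n
  · exact hQ.of_iso ((Phi p q g).rightDerivedZeroIsoSelf.app M).symm hY
  · exact hQ.of_iso ((isZero_rightDerived_of_goodClass (Phi p q g) (goodClass_phi p q g) n M
      (affAcy_adequate M hM)).iso (isZero_zero _)).symm h0

/-- The property of the cohomology over an open. -/
def OpenProp (Q : ObjectProperty (Adeq.MVF R)) (U : P.Opens) : Prop :=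
  ∀ n, Q ((phiCx p q res U.ι).homology n)

theorem openProp_sup {Q : ObjectProperty (Adeq.MVF R)} (hQ : Closed Q) (h0 : Q 0) (U V : P.Opens)
    (hU : OpenProp p q res Q U) (hV : OpenProp p q res Q V) (hW : OpenProp p q res Q (U ⊓ V)) :
    OpenProp p q res Q (U ⊔ V) := fun n =>
  homology_prop_of_glue p q res (P.homOfLE le_sup_left) (P.homOfLE le_sup_right) (P.homOfLE inf_le_left)
    (P.homOfLE inf_le_right) (P.homOfLE_ι _) (P.homOfLE_ι _) (P.homOfLE_ι _) (P.homOfLE_ι _)
    (isPullback_opens_inf_le le_sup_left le_sup_right)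
    (fun y => by
      rcases (show y.1 ∈ U ∨ y.1 ∈ V from y.2) with h | h
      · refine Or.inl ⟨⟨y.1, h⟩, ?_⟩
        exact Subtype.ext (by simp)
      · refine Or.inr ⟨⟨y.1, h⟩, ?_⟩
        exact Subtype.ext (by simp))
    hQ h0 hU hV hW n

theorem openProp_of_le_affine {Q : ObjectProperty (Adeq.MVF R)} (hQ : Closed Q) (h0 : Q 0)
    (hM : Adeq.adequateMod Kf T M) (hbase : ∀ U : P.Opens, IsAffineOpen U → Q ((Phi p q U.ι).obj M))
    (A : P.Opens) (hA : IsAffineOpen A) (U : P.Opens) (hU : U ≤ A) (hUc : IsCompact (U : Set P)) :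
    OpenProp p q res Q U := by
  classical
  have haff : ∀ V : P.Opens, IsAffineOpen V → OpenProp p q res Q V := fun V hV n => by
    have : IsAffine (V : Scheme.{u}) := hV
    exact prop_affine p q res V.ι hM hQ h0 (hbase V hV) n
  have hind : ∀ (s : Finset Γ(P, A)) (t : Γ(P, A)), OpenProp p q res Q (P.basicOpen t ⊓ s.sup (fun f => P.basicOpen f)) := by
    intro s
    induction s using Finset.induction with
    | empty =>
      intro t
      rw [Finset.sup_empty, inf_bot_eq]
      exact haff ⊥ (isAffineOpen_bot P)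
    | insert a s ha ih =>
      intro t
      rw [Finset.sup_insert, inf_sup_left]
      refine openProp_sup p q res hQ h0 _ _ ?_ (ih t) ?_
      · rw [← Scheme.basicOpen_mul]
        exact haff _ (hA.basicOpen _)
      · have e : P.basicOpen t ⊓ P.basicOpen a ⊓ (P.basicOpen t ⊓ s.sup fun f => P.basicOpen f) =
            P.basicOpen (t * a) ⊓ s.sup fun f => P.basicOpen f := by
          rw [Scheme.basicOpen_mul, ← inf_assoc]
          exact congrArg (· ⊓ _) (inf_eq_left.2 inf_le_left)
        rw [e]
        exact ih _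
  have hcov : ∀ x : U, ∃ f : Γ(P, A), P.basicOpen f ≤ U ∧ x.1 ∈ P.basicOpen f := fun x =>
    hA.exists_basicOpen_le x (hU x.2)
  choose f hfU hfx using hcov
  obtain ⟨s, hs⟩ := hUc.elim_finite_subcover (fun x : U => (P.basicOpen (f x) : Set P))
    (fun x => (P.basicOpen (f x)).isOpen) (fun x hx => Set.mem_iUnion.2 ⟨⟨x, hx⟩, hfx ⟨x, hx⟩⟩)
  have e : U = P.basicOpen (1 : Γ(P, A)) ⊓ (s.image f).sup (fun g => P.basicOpen g) := by
    rw [Scheme.basicOpen_of_isUnit _ isUnit_one]
    refine le_antisymm (le_inf hU ?_) (inf_le_right.trans ?_)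
    · intro x hx
      obtain ⟨i, hi, hxi⟩ := Set.mem_iUnion₂.1 (hs hx)
      exact (Finset.le_sup (f := fun g => P.basicOpen g) (Finset.mem_image_of_mem f hi)) hxi
    · refine Finset.sup_le fun g hg => ?_
      obtain ⟨i, -, rfl⟩ := Finset.mem_image.1 hg
      exact hfU i
  rw [e]
  exact hind _ _

/-- The property holds for all compact opens of a quasi-separated base change. -/
theorem openProp_of_isCompact [QuasiSeparatedSpace P] {Q : ObjectProperty (Adeq.MVF R)} (hQ : Closed Q) (h0 : Q 0)
    (hM : Adeq.adequateMod Kf T M) (hbase : ∀ U : P.Opens, IsAffineOpen U → Q ((Phi p q U.ι).obj M))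
    (U : P.Opens) (hUc : IsCompact (U : Set P)) : OpenProp p q res Q U := by
  refine compact_open_induction_on (P := OpenProp p q res Q) U hUc
    (openProp_of_le_affine p q res hQ h0 hM hbase ⊥ (isAffineOpen_bot P) ⊥ le_rfl ?_) fun V hV A ih => ?_
  · exact isCompact_empty
  refine openProp_sup p q res hQ h0 V A ih
    (openProp_of_le_affine p q res hQ h0 hM hbase A A.2 A le_rfl A.2.isCompact)
    (openProp_of_le_affine p q res hQ h0 hM hbase A A.2 _ inf_le_right ?_)
  exact (QuasiSeparatedSpace.inter_isCompact (V : Set P) (A.1 : Set P) V.isOpen hV A.1.isOpen A.2.isCompact)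

end Groth.Agent.AdeqCoh
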