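import Groth.Agent.AdeqCoh.InjVan

/-!
# Module-valued functors of sections over schemes over a base change
-/

set_option backward.isDefEq.respectTransparency false

universe u

open CategoryTheory CategoryTheory.Limits AlgebraicGeometry Opposite

namespace Groth.Agent.AdeqCoh

open Groth.Agent.AdeqLib Groth.Agent.AdeqSite

/-- The big fppf site. -/
local notation "Kf" => Scheme.fppfPrecoverage

variable {T P : Scheme.{u}} {R : CommRingCat.{u}} (p : P ⟶ Spec R) (q : P ⟶ T)

/-- `I ↦ (B ↦ I(Y ×_R Spec B))` for `g : Y → P`. -/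
noncomputable def Phi {Y : Scheme.{u}} (g : Y ⟶ P) : BigSite.Mod Kf T ⥤ Adeq.MVF R :=
  BigSite.pullMod Kf (g ≫ q) ⋙ BigSite.pushMod Kf (g ≫ p) ⋙ Adeq.toMVF Kf (𝟙 (Spec R))

instance {Y : Scheme.{u}} (g : Y ⟶ P) : (Phi p q g).Additive := by
  have : (BigSite.pullMod Kf (g ≫ q)).Additive := (BigSite.modAdj Kf (g ≫ q)).left_adjoint_additive
  unfold Phi
  infer_instance

instance toMVF_preservesFiniteLimits {S : Scheme.{u}} (a : Spec R ⟶ S) :
    PreservesFiniteLimits (Adeq.toMVF Kf a) := by
  have : PreservesFiniteLimits (Adeq.toMVFPre Kf a) := ⟨fun _ _ _ => inferInstance⟩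
  exact comp_preservesFiniteLimits (SheafOfModules.forget _) (Adeq.toMVFPre Kf a)

theorem preservesFiniteLimits_pullMod {X W : Scheme.{u}} (w : W ⟶ X) :
    PreservesFiniteLimits (BigSite.pullMod Kf w) := by
  have : PreservesFiniteLimits (BigSite.toAbMod Kf X ⋙ BigSite.pullBig Kf w AddCommGrpCat.{u + 1}) :=
    comp_preservesFiniteLimits _ _
  have : PreservesFiniteLimits (BigSite.pullMod Kf w ⋙ BigSite.toAbMod Kf W) := this
  have : (BigSite.toAbMod Kf W).ReflectsIsomorphisms :=
    reflectsIsomorphisms_of_reflectsMonomorphisms_of_reflectsEpimorphisms _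
  exact preservesFiniteLimits_of_reflects_of_preserves (BigSite.pullMod Kf w) (BigSite.toAbMod Kf W)

instance {Y : Scheme.{u}} (g : Y ⟶ P) : PreservesFiniteLimits (Phi p q g) := by
  have := preservesFiniteLimits_pullMod (g ≫ q)
  have : PreservesLimitsOfSize.{0, 0} (BigSite.pushMod Kf (g ≫ p)) :=
    (BigSite.modAdj Kf (g ≫ p)).rightAdjoint_preservesLimits
  have : PreservesFiniteLimits (BigSite.pushMod Kf (g ≫ p)) := ⟨fun _ _ _ => inferInstance⟩
  unfold Phi
  exact comp_preservesFiniteLimits _ _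

/-- The objects `Y ×_R Spec B` over `T`. -/
noncomputable abbrev wObj {Y : Scheme.{u}} (g : Y ⟶ P) (B : Adeq.Alg R) : Over T :=
  (Over.map (g ≫ q)).obj ((Over.pullback (g ≫ p)).obj (obj (𝟙 (Spec R)) B))

/-- The transition maps of the objects `Y ×_R Spec B`. -/
noncomputable abbrev wHom {Y : Scheme.{u}} (g : Y ⟶ P) {B B' : Adeq.Alg R} (h : B ⟶ B') :
    wObj p q g B' ⟶ wObj p q g B :=
  (Over.map (g ≫ q)).map ((Over.pullback (g ≫ p)).map (hom (𝟙 (Spec R)) h))

variable {Y Y' : Scheme.{u}} {g : Y ⟶ P} {g' : Y' ⟶ P} (e : Y' ⟶ Y) (he : e ≫ g = g')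

/-- The map on the objects induced by `Y' → Y`. -/
noncomputable def wMap (B : Adeq.Alg R) : wObj p q g' B ⟶ wObj p q g B :=
  Over.homMk (pullback.lift (pullback.fst _ _) (pullback.snd _ _ ≫ e)
      (by rw [pullback.condition, Category.assoc, ← Category.assoc e, he]))
    (by
      change pullback.lift _ _ _ ≫ pullback.snd _ _ ≫ g ≫ q = pullback.snd _ _ ≫ g' ≫ q
      rw [pullback.lift_snd_assoc, Category.assoc]
      exact congrArg (pullback.snd _ _ ≫ ·) ((Category.assoc _ _ _).symm.trans (congrArg (· ≫ q) he)))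

theorem wMap_fst (B : Adeq.Alg R) :
    (wMap p q e he B).left ≫ pullback.fst (obj (𝟙 (Spec R)) B).hom (g ≫ p) = pullback.fst _ _ :=
  pullback.lift_fst _ _ _

theorem wMap_snd (B : Adeq.Alg R) :
    (wMap p q e he B).left ≫ pullback.snd (obj (𝟙 (Spec R)) B).hom (g ≫ p) = pullback.snd _ _ ≫ e :=
  pullback.lift_snd _ _ _

theorem wMap_natural {B B' : Adeq.Alg R} (h : B ⟶ B') :
    wHom p q g' h ≫ wMap p q e he B = wMap p q e he B' ≫ wHom p q g h := by
  refine Over.OverMorphism.ext ?_
  change ((Over.pullback (g' ≫ p)).map (hom (𝟙 (Spec R)) h)).left ≫ (wMap p q e he B).left =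
    (wMap p q e he B').left ≫ ((Over.pullback (g ≫ p)).map (hom (𝟙 (Spec R)) h)).left
  refine pullback.hom_ext ?_ ?_
  · rw [Category.assoc, Category.assoc]
    refine (congrArg (_ ≫ ·) (wMap_fst p q e he B)).trans ?_
    refine Eq.trans (pullback.lift_fst _ _ _) ?_
    refine Eq.trans ?_ (congrArg ((wMap p q e he B').left ≫ ·) (pullback.lift_fst _ _ _)).symm
    exact (congrArg (· ≫ (hom (𝟙 (Spec R)) h).left) (wMap_fst p q e he B')).symm.trans (Category.assoc _ _ _)
  · rw [Category.assoc, Category.assoc]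
    refine (congrArg (_ ≫ ·) (wMap_snd p q e he B)).trans ?_
    refine ((Category.assoc _ _ _).symm.trans (congrArg (· ≫ e) (pullback.lift_snd _ _ _))).trans ?_
    refine Eq.trans ?_ (congrArg ((wMap p q e he B').left ≫ ·) (pullback.lift_snd _ _ _)).symm
    exact (wMap_snd p q e he B').symm

theorem rs_wMap_smul (M : BigSite.Mod Kf T) (B : Adeq.Alg R) (r : (B : Type u))
    (x : ((Phi p q g).obj M).obj (Adeq.pt B)) :
    rs M (wMap p q e he B)
        (@HSMul.hSMul (B : Type u) (((Phi p q g).obj M).obj (Adeq.pt B))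
          (((Phi p q g).obj M).obj (Adeq.pt B)) _ r x) =
      @HSMul.hSMul (B : Type u) (((Phi p q g').obj M).obj (Adeq.pt B))
        (((Phi p q g').obj M).obj (Adeq.pt B)) _ r (rs M (wMap p q e he B) x) := by
  let r₀ := Adeq.toSect Kf (𝟙 (Spec R)) B r
  refine (M.val.map_smul (wMap p q e he B).op
    ((BigSite.ORingAbs Kf).obj.map (pullback.fst (obj (𝟙 (Spec R)) B).hom (g ≫ p)).op r₀) x).trans ?_
  refine congrArg (fun s => s • rs M (wMap p q e he B) x) ?_
  apply ULift.ext
  change (wMap p q e he B).left.appTop ((pullback.fst (obj (𝟙 (Spec R)) B).hom (g ≫ p)).appTop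
      ((Scheme.ΓSpecIso (CommRingCat.of (B : Type u))).inv r)) =
    (pullback.fst (obj (𝟙 (Spec R)) B).hom (g' ≫ p)).appTop
      ((Scheme.ΓSpecIso (CommRingCat.of (B : Type u))).inv r)
  refine (CategoryTheory.congr_fun (Scheme.Hom.comp_appTop (wMap p q e he B).left
    (pullback.fst (obj (𝟙 (Spec R)) B).hom (g ≫ p))) _).symm.trans ?_
  exact congrArg (fun m : (wObj p q g' B).left ⟶ (obj (𝟙 (Spec R)) B).left => m.appTop _) (wMap_fst p q e he B)

/-- The linear restriction maps. -/
noncomputable def wLin (M : BigSite.Mod Kf T) (B : Adeq.Alg R) :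
    ((Phi p q g).obj M).obj (Adeq.pt B) →ₗ[(B : Type u)] ((Phi p q g').obj M).obj (Adeq.pt B) where
  toFun := fun x => rs M (wMap p q e he B) x
  map_add' := fun x y => map_add (rs M (wMap p q e he B)) x y
  map_smul' := fun r x => rs_wMap_smul p q e he M B r x

theorem wLin_natural (M : BigSite.Mod Kf T) {B B' : Adeq.Alg R} (h : B ⟶ B')
    (x : BigSite.sectMod Kf M (wObj p q g B)) :
    rs M (wMap p q e he B') (rs M (wHom p q g h) x) = rs M (wHom p q g' h) (rs M (wMap p q e he B) x) := by
  rw [← rs_comp, ← rs_comp, wMap_natural p q e he h]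

/-- The components of `phiMap`. -/
noncomputable def phiApp (M : BigSite.Mod Kf T) : (Phi p q g).obj M ⟶ (Phi p q g').obj M :=
  mvfHomMk (fun B => wLin p q e he M B) (fun _ _ h x => wLin_natural p q e he M h x)

/-- The restriction natural transformation. -/
noncomputable def phiMap : Phi p q g ⟶ Phi p q g' where
  app M := phiApp p q e he M
  naturality M N φ := mvf_ext fun B x => (sm_rs φ (wMap p q e he B) x).symm

theorem phiMap_apply (M : BigSite.Mod Kf T) (B : Adeq.Alg R) (x : BigSite.sectMod Kf M (wObj p q g B)) :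
    ((phiMap p q e he).app M).app (Adeq.pt B) x = rs M (wMap p q e he B) x := rfl

theorem isPullback_wMap (B : Adeq.Alg R) :
    IsPullback (wMap p q e he B).left (pullback.snd (obj (𝟙 (Spec R)) B).hom (g' ≫ p))
      (pullback.snd (obj (𝟙 (Spec R)) B).hom (g ≫ p)) e := by
  refine IsPullback.of_right ?_ (wMap_snd p q e he B) (IsPullback.of_hasPullback (obj (𝟙 (Spec R)) B).hom (g ≫ p))
  have h : e ≫ g ≫ p = g' ≫ p := by rw [← Category.assoc, he]
  rw [wMap_fst, h]
  exact IsPullback.of_hasPullback _ _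

theorem isOpenImmersion_wMap [IsOpenImmersion e] (B : Adeq.Alg R) : IsOpenImmersion (wMap p q e he B).left :=
  MorphismProperty.of_isPullback (P := @IsOpenImmersion) (isPullback_wMap p q e he B).flip inferInstance

theorem epi_phiMap [IsOpenImmersion e] (I : BigSite.Mod Kf T) [Injective I] :
    Epi ((phiMap p q e he).app I) :=
  PresheafOfModules.epi_of_surjective fun {X} => by
    have := isOpenImmersion_wMap p q e he X.unop.unop
    have : Mono (wMap p q e he X.unop.unop) :=
      (Over.forget T).mono_of_mono_map (inferInstanceAs (Mono (wMap p q e he X.unop.unop).left))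
    exact rs_surjective_of_injective I (wMap p q e he X.unop.unop)

end Groth.Agent.AdeqCoh
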