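import Groth.Agent.AdeqCoh.Opens
import Groth.Agent.AdeqSite.Push
import Groth.Agent.AdeqSite.Parasitic

/-!
# Higher direct images of adequate modules on big fppf sites
-/

set_option backward.isDefEq.respectTransparency false

universe u

open CategoryTheory CategoryTheory.Limits AlgebraicGeometry Opposite
open scoped ZeroObject

namespace Groth.Agent.AdeqCoh

open Groth.Agent.AdeqLib Groth.Agent.AdeqSite

/-- The big fppf site. -/
local notation "Kf" => Scheme.fppfPrecoverage

variable {S T : Scheme.{u}} (f : T ⟶ S) {R : CommRingCat.{u}} (a : Spec R ⟶ S)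

theorem closed_adequate : Closed (Adeq.adequate R) where
  of_iso e h := adequate_of_iso e h
  kernel φ hX hY := adequate_kernel hX hY φ
  cokernel φ hX hY := adequate_cokernel (covered_of_adequate hX) hY φ
  ext C hC h₁ h₃ := by
    have := hC.mono_f
    have := hC.epi_g
    refine adequate_extension h₁ h₃ C.f C.g (fun B => PresheafOfModules.injective_of_mono C.f (Adeq.pt B))
      (fun B => PresheafOfModules.surjective_of_epi C.g (Adeq.pt B)) fun B y => ?_
    have : PreservesFiniteLimits (PresheafOfModules.evaluation.{u + 1} (Adeq.ringOf R) (Adeq.pt B)) :=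
      PresheafOfModules.evaluation_preservesFiniteLimits _ _
    have hex := (ShortComplex.moduleCat_exact_iff _).1
      (hC.exact.map_of_mono_of_preservesKernel
        (PresheafOfModules.evaluation.{u + 1} (Adeq.ringOf R) (Adeq.pt B)) inferInstance inferInstance) y
    refine ⟨fun hy => hex hy, ?_⟩
    rintro ⟨x, rfl⟩
    exact CategoryTheory.congr_fun ((PresheafOfModules.evaluation.{u + 1} (Adeq.ringOf R) (Adeq.pt B)).congr_map C.zero) x

theorem adequate_zero : Adeq.adequate R (0 : Adeq.MVF R) :=
  adequate_of_iso (kernel.ofMono (𝟙 (uobj (ModuleCat.of R PUnit.{u + 2}))))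
    (adequate_kernel (adequate_uobj _) (adequate_uobj _) _)

/-- Vanishing at the base. -/
def ZeroAtBase (R : CommRingCat.{u}) : ObjectProperty (Adeq.MVF R) := fun F =>
  Subsingleton (F.obj (Adeq.pt (Adeq.algOf R R)))

theorem closed_zeroAtBase : Closed (ZeroAtBase R) where
  of_iso e h := (((PresheafOfModules.evaluation _ _).mapIso e).toLinearEquiv.toEquiv.subsingleton_congr).1 h
  kernel φ hX _ :=
    haveI : Subsingleton _ := hX
    (PresheafOfModules.injective_of_mono (kernel.ι φ) (Adeq.pt (Adeq.algOf R R))).subsingleton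
  cokernel φ _ hY :=
    haveI : Subsingleton _ := hY
    (PresheafOfModules.surjective_of_epi (cokernel.π φ) (Adeq.pt (Adeq.algOf R R))).subsingleton
  ext C hC h₁ h₃ := by
    have := hC.mono_f
    let E := PresheafOfModules.evaluation.{u + 1} (Adeq.ringOf R) (Adeq.pt (Adeq.algOf R R))
    have : PreservesFiniteLimits E := PresheafOfModules.evaluation_preservesFiniteLimits _ _
    have hex := (ShortComplex.moduleCat_exact_iff _).1
      (hC.exact.map_of_mono_of_preservesKernel E inferInstance inferInstance)
    refine subsingleton_of_forall_eq 0 fun y => ?_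
    obtain ⟨x, rfl⟩ := hex y (h₃.elim _ _)
    exact (congrArg _ (h₁.elim x 0)).trans (map_zero _)

/-- The comparison of objects over `T`. -/
noncomputable def topHom (B : Adeq.Alg R) :
    wObj (pullback.fst a f) (pullback.snd a f) (⊤ : (pullback a f).Opens).ι B ≅
      (Over.pullback f).obj (obj a B) := by
  let ι := (⊤ : (pullback a f).Opens).ι
  have : IsIso ι := by
    change IsIso (⊤ : (pullback a f).Opens).ι
    rw [← Scheme.topIso_hom]
    infer_instance
  have h : IsPullback (pullback.fst (obj (𝟙 (Spec R)) B).hom (ι ≫ pullback.fst a f))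
      (pullback.snd (obj (𝟙 (Spec R)) B).hom (ι ≫ pullback.fst a f) ≫ ι ≫ pullback.snd a f)
      (obj a B).hom f := by
    have h₂ : IsPullback (ι ≫ pullback.fst a f) (ι ≫ pullback.snd a f) a f :=
      (IsPullback.of_hasPullback a f).of_iso (asIso ι).symm (Iso.refl _) (Iso.refl _) (Iso.refl _)
          (by simp) (by simp) (by simp) (by simp)
    have h₃ := (IsPullback.of_hasPullback (obj (𝟙 (Spec R)) B).hom (ι ≫ pullback.fst a f)).flip.paste_horiz
      h₂.flip
    have e : (obj (𝟙 (Spec R)) B).hom ≫ a = (obj a B).hom := by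
      change (Spec.map _ ≫ 𝟙 _) ≫ a = Spec.map _ ≫ a
      rw [Category.comp_id]
    rw [← e]
    exact h₃.flip
  exact Over.isoMk h.isoPullback (IsPullback.isoPullback_hom_snd h)

theorem topHom_fst (B : Adeq.Alg R) :
    (topHom f a B).hom.left ≫ pullback.fst (obj a B).hom f =
      pullback.fst (obj (𝟙 (Spec R)) B).hom ((⊤ : (pullback a f).Opens).ι ≫ pullback.fst a f) := by
  simp only [topHom]
  exact IsPullback.isoPullback_hom_fst _

theorem topHom_natural {B B' : Adeq.Alg R} (h : B ⟶ B') :
    wHom (pullback.fst a f) (pullback.snd a f) (⊤ : (pullback a f).Opens).ι h ≫ (topHom f a B).hom =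
      (topHom f a B').hom ≫ (Over.pullback f).map (hom a h) := by
  refine Over.OverMorphism.ext (pullback.hom_ext ?_ ?_)
  · refine (Category.assoc _ _ _).trans ((congrArg (_ ≫ ·) (topHom_fst f a B)).trans ?_)
    refine (pullback.lift_fst _ _ _).trans ?_
    refine Eq.trans ?_ (Category.assoc _ _ _).symm
    refine Eq.trans ?_ (congrArg ((topHom f a B').hom.left ≫ ·) (pullback.lift_fst _ _ _)).symm
    exact (congrArg (· ≫ _) (topHom_fst f a B')).symm.trans (Category.assoc _ _ _)
  · exact (Over.w (wHom _ _ _ h ≫ (topHom f a B).hom)).trans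
      (Over.w ((topHom f a B').hom ≫ (Over.pullback f).map (hom a h))).symm

theorem rs_topHom_smul (M : BigSite.Mod Kf T) (B : Adeq.Alg R) (r : (B : Type u))
    (x : ((Adeq.toMVF Kf a).obj ((BigSite.pushMod Kf f).obj M)).obj (Adeq.pt B)) :
    rs M (topHom f a B).hom
        (@HSMul.hSMul (B : Type u) (((Adeq.toMVF Kf a).obj ((BigSite.pushMod Kf f).obj M)).obj (Adeq.pt B))
          (((Adeq.toMVF Kf a).obj ((BigSite.pushMod Kf f).obj M)).obj (Adeq.pt B)) _ r x) =
      @HSMul.hSMul (B : Type u)
        (((Phi (pullback.fst a f) (pullback.snd a f) (⊤ : (pullback a f).Opens).ι).obj M).obj (Adeq.pt B))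
        (((Phi (pullback.fst a f) (pullback.snd a f) (⊤ : (pullback a f).Opens).ι).obj M).obj (Adeq.pt B)) _ r
        (rs M (topHom f a B).hom x) := by
  let r₀ := Adeq.toSect Kf a B r
  refine (M.val.map_smul (topHom f a B).hom.op
    ((BigSite.ORingAbs Kf).obj.map (pullback.fst (obj a B).hom f).op r₀) x).trans ?_
  refine congrArg (fun s => s • rs M (topHom f a B).hom x) ?_
  apply ULift.ext
  change (topHom f a B).hom.left.appTop ((pullback.fst (obj a B).hom f).appTop
      ((Scheme.ΓSpecIso (CommRingCat.of (B : Type u))).inv r)) =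
    (pullback.fst (obj (𝟙 (Spec R)) B).hom ((⊤ : (pullback a f).Opens).ι ≫ pullback.fst a f)).appTop
      ((Scheme.ΓSpecIso (CommRingCat.of (B : Type u))).inv r)
  refine (CategoryTheory.congr_fun (Scheme.Hom.comp_appTop (topHom f a B).hom.left
    (pullback.fst (obj a B).hom f)) _).symm.trans ?_
  exact congrArg (fun m : (wObj (pullback.fst a f) (pullback.snd a f) (⊤ : (pullback a f).Opens).ι B).left ⟶
    (obj a B).left => m.appTop _) (topHom_fst f a B)

/-- The comparison on sections. -/
noncomputable def topLin (M : BigSite.Mod Kf T) (B : Adeq.Alg R) :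
    ((Adeq.toMVF Kf a).obj ((BigSite.pushMod Kf f).obj M)).obj (Adeq.pt B) →ₗ[(B : Type u)]
      ((Phi (pullback.fst a f) (pullback.snd a f) (⊤ : (pullback a f).Opens).ι).obj M).obj (Adeq.pt B) where
  toFun := fun x => rs M (topHom f a B).hom x
  map_add' := fun x y => map_add (rs M (topHom f a B).hom) x y
  map_smul' := fun r x => rs_topHom_smul f a M B r x

theorem topLin_natural (M : BigSite.Mod Kf T) {B B' : Adeq.Alg R} (h : B ⟶ B')
    (x : BigSite.sectMod Kf M ((Over.pullback f).obj (obj a B))) :
    rs M (topHom f a B').hom (rs M ((Over.pullback f).map (hom a h)) x) =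
      rs M (wHom (pullback.fst a f) (pullback.snd a f) (⊤ : (pullback a f).Opens).ι h)
        (rs M (topHom f a B).hom x) := by
  rw [← rs_comp, ← rs_comp, topHom_natural f a h]

/-- The comparison map. -/
noncomputable def topApp (M : BigSite.Mod Kf T) :
    (Adeq.toMVF Kf a).obj ((BigSite.pushMod Kf f).obj M) ⟶
      (Phi (pullback.fst a f) (pullback.snd a f) (⊤ : (pullback a f).Opens).ι).obj M :=
  mvfHomMk (fun B => topLin f a M B) (fun _ _ h x => topLin_natural f a M h x)

theorem isIso_topApp (M : BigSite.Mod Kf T) : IsIso (topApp f a M) := by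
  have hb : ∀ B : Adeq.Alg R, Function.Bijective (rs M (topHom f a B).hom) := fun B =>
    ConcreteCategory.bijective_of_isIso (M.val.presheaf.map (topHom f a B).hom.op)
  have : Mono (topApp f a M) := PresheafOfModules.mono_of_injective fun {X} => (hb X.unop.unop).1
  have : Epi (topApp f a M) := PresheafOfModules.epi_of_surjective fun {X} => (hb X.unop.unop).2
  exact isIso_of_mono_of_epi _

/-- Pushforward sections as the functor of the total open. -/
noncomputable def topIso' : BigSite.pushMod Kf f ⋙ Adeq.toMVF Kf a ≅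
    Phi (pullback.fst a f) (pullback.snd a f) (⊤ : (pullback a f).Opens).ι :=
  NatIso.ofComponents (fun M => @asIso _ _ _ _ (topApp f a M) (isIso_topApp f a M))
    (fun {M N} φ => mvf_ext fun B x => (sm_rs φ (topHom f a B).hom x).symm)

section Homology

variable [HasInjectiveResolutions (BigSite.Mod Kf T)] {M : BigSite.Mod Kf T} (res : InjectiveResolution M)

/-- The presheaf of cohomology modules. -/
noncomputable def homPre (i : ℕ) : PresheafOfModules.{u + 1} (BigSite.ORing Kf S).obj :=
  (((SheafOfModules.forget _).mapHomologicalComplex _).obj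
    (((BigSite.pushMod Kf f).mapHomologicalComplex _).obj res.cocomplex)).homology i

theorem nonempty_rpush_iso (i : ℕ) :
    Nonempty ((BigSite.RpushMod Kf f i).obj M ≅
      (PresheafOfModules.sheafification.{u + 1} (𝟙 (BigSite.ORing Kf S).obj)).obj (homPre f res i)) := by
  let L := PresheafOfModules.sheafification.{u + 1} (𝟙 (BigSite.ORing Kf S).obj)
  let C := ((BigSite.pushMod Kf f).mapHomologicalComplex (ComplexShape.up ℕ)).obj res.cocomplex
  let c : SheafOfModules.forget (BigSite.ORing Kf S) ⋙ L ≅ 𝟭 _ :=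
    asIso (PresheafOfModules.sheafificationAdjunction.{u + 1} (𝟙 (BigSite.ORing Kf S).obj)).counit
  have : PreservesFiniteLimits L := inferInstance
  have : PreservesColimitsOfSize.{0, 0} L :=
    (PresheafOfModules.sheafificationAdjunction.{u + 1} (𝟙 (BigSite.ORing Kf S).obj)).leftAdjoint_preservesColimits
  have : PreservesFiniteColimits L := ⟨fun _ _ _ => inferInstance⟩
  have : L.Additive := (PresheafOfModules.sheafificationAdjunction.{u + 1} (𝟙 (BigSite.ORing Kf S).obj)).left_adjoint_additive
  let e₁ : C ≅ (L.mapHomologicalComplex _).obj (((SheafOfModules.forget _).mapHomologicalComplex _).obj C) :=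
    HomologicalComplex.Hom.isoOfComponents (fun n => (c.app (C.X n)).symm)
      (fun i j _ => (c.inv.naturality (C.d i j)).symm)
  exact ⟨res.isoRightDerivedObj (BigSite.pushMod Kf f) i ≪≫
    (HomologicalComplex.homologyFunctor _ _ i).mapIso e₁ ≪≫
    ((((SheafOfModules.forget _).mapHomologicalComplex _).obj C).sc i).mapHomologyIso L⟩

theorem nonempty_homPre_iso (i : ℕ) :
    Nonempty ((Adeq.toMVFPre Kf a).obj (homPre f res i) ≅
      (phiCx (pullback.fst a f) (pullback.snd a f) res (⊤ : (pullback a f).Opens).ι).homology i) := by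
  let C := ((BigSite.pushMod Kf f).mapHomologicalComplex (ComplexShape.up ℕ)).obj res.cocomplex
  let D := ((SheafOfModules.forget _).mapHomologicalComplex (ComplexShape.up ℕ)).obj C
  have : PreservesFiniteLimits (Adeq.toMVFPre Kf a) := ⟨fun _ _ _ => inferInstance⟩
  have : PreservesFiniteColimits (Adeq.toMVFPre Kf a) := ⟨fun _ _ _ => inferInstance⟩
  let θ := topIso' f a
  let e₁ : ((Adeq.toMVFPre Kf a).mapHomologicalComplex _).obj D ≅
      phiCx (pullback.fst a f) (pullback.snd a f) res (⊤ : (pullback a f).Opens).ι :=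
    HomologicalComplex.Hom.isoOfComponents (fun n => θ.app (res.cocomplex.X n))
      (fun i j _ => (θ.hom.naturality (res.cocomplex.d i j)).symm)
  exact ⟨((D.sc i).mapHomologyIso (Adeq.toMVFPre Kf a)).symm ≪≫
    (HomologicalComplex.homologyFunctor _ _ i).mapIso e₁⟩

variable [QuasiCompact f] [QuasiSeparated f]

theorem prop_homPre (hM : Adeq.adequateMod Kf T M) {Q : ObjectProperty (Adeq.MVF R)} (hQ : Closed Q) (h0 : Q 0)
    (hbase : ∀ U : (pullback a f).Opens, IsAffineOpen U →
      Q ((Phi (pullback.fst a f) (pullback.snd a f) U.ι).obj M)) (i : ℕ) :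
    Q ((Adeq.toMVFPre Kf a).obj (homPre f res i)) := by
  obtain ⟨e⟩ := nonempty_homPre_iso f a res i
  have : CompactSpace ↥(pullback a f) := QuasiCompact.compactSpace_of_compactSpace (pullback.fst a f)
  have : QuasiSeparatedSpace ↥(pullback a f) := quasiSeparatedSpace_of_quasiSeparated (pullback.fst a f)
  exact hQ.of_iso e.symm (openProp_of_isCompact _ _ res hQ h0 hM hbase ⊤ isCompact_univ i)

theorem adequate_homPre (hM : Adeq.adequateMod Kf T M) (R : CommRingCat.{u}) (a : Spec R ⟶ S) (i : ℕ) :
    Adeq.adequate R ((Adeq.toMVFPre Kf a).obj (homPre f res i)) := by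
  refine prop_homPre f a res hM closed_adequate adequate_zero (fun U hU => ?_) i
  have : IsAffine (U : Scheme.{u}) := hU
  have : IsAffineHom (U.ι ≫ pullback.fst a f) := isAffineHom_of_isAffine _
  exact adequate_pushMod Scheme.zariskiPrecoverage_le_fppfPrecoverage (U.ι ≫ pullback.fst a f) _
    (fun _ b => adequate_toMVF_fppf _ (adequateMod_pull' _ M hM) b) R (𝟙 _)

theorem adequateMod_rpush (hM : Adeq.adequateMod Kf T M) (i : ℕ) :
    Adeq.adequateMod Kf S ((BigSite.RpushMod Kf f i).obj M) := by
  obtain ⟨res⟩ := (inferInstance : HasInjectiveResolution M).out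
  obtain ⟨e⟩ := nonempty_rpush_iso f res i
  exact (Adeq.adequateMod Kf S).prop_of_iso e.symm
    (adequateMod_sheafify fun B b => adequate_homPre f res hM B b i)

theorem parasitic_rpush (hM : Adeq.adequateMod Kf T M) (hP : Adeq.parasitic Kf T M) (i : ℕ) :
    Adeq.parasitic Kf S ((BigSite.RpushMod Kf f i).obj M) := by
  obtain ⟨res⟩ := (inferInstance : HasInjectiveResolution M).out
  obtain ⟨e⟩ := nonempty_rpush_iso f res i
  refine (Adeq.parasitic Kf S).prop_of_iso e.symm (parasitic_of_affine _ fun R a ha => ?_)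
  have hz : ZeroAtBase R ((Adeq.toMVFPre Kf a).obj (homPre f res i)) := by
    refine prop_homPre f a res hM closed_zeroAtBase ?_ (fun U hU => ?_) i
    · exact ModuleCat.subsingleton_of_isZero
        ((PresheafOfModules.evaluation _ _).map_isZero (isZero_zero _))
    · refine hP _ ?_
      have : IsIso (obj (𝟙 (Spec R)) (Adeq.algOf R R)).hom := by
        change IsIso (Spec.map (CommRingCat.ofHom (RingHom.id _)) ≫ 𝟙 _)
        rw [CommRingCat.ofHom_id, Spec.map_id, Category.id_comp]
        infer_instance
      change Flat (pullback.snd (obj (𝟙 (Spec R)) (Adeq.algOf R R)).hom (U.ι ≫ pullback.fst a f) ≫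
        U.ι ≫ pullback.snd a f)
      infer_instance
  let P := homPre f res i
  have h1 := ((QuotSh.J Kf S).W_toSheafify P.presheaf).isLocallyInjective
  have h2 := ((QuotSh.J Kf S).W_toSheafify P.presheaf).isLocallySurjective
  rw [← toPresheaf_sheafUnit] at h1 h2
  have := isIso_toMVFPre_map_fppf (sheafUnit P) (fun B b => adequate_homPre f res hM B b i) a
  have hz' : ZeroAtBase R ((Adeq.toMVF Kf a).obj
      ((PresheafOfModules.sheafification.{u + 1} (𝟙 (BigSite.ORing Kf S).obj)).obj P)) :=
    closed_zeroAtBase.of_iso (asIso ((Adeq.toMVFPre Kf a).map (sheafUnit P))) hz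
  exact subsingleton_sect_of_iso _ (baseIso a) hz'

end Homology

end Groth.Agent.AdeqCoh
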