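import Groth.Agent.AdeqCoh.Generic
import Mathlib.CategoryTheory.Sites.SheafCohomology.Basic
import Mathlib.CategoryTheory.Sites.Continuous

/-!
# Restriction maps on cohomology along continuous functors, on a general site
-/

set_option backward.isDefEq.respectTransparency false

universe w v v' u u'

open CategoryTheory CategoryTheory.Limits Opposite
open CategoryTheory.Abelian (Ext)

namespace Groth.Agent.AdeqCoh

variable {C : Type u} [Category.{v} C] {J : GrothendieckTopology C} [HasSheafify J AddCommGrpCat.{w}]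
  [HasExt.{w} (Sheaf J AddCommGrpCat.{w})] {T : C} (hT : IsTerminal T)

variable (J) in
/-- The constant sheaf `ℤ`. -/
noncomputable abbrev ZS : Sheaf J AddCommGrpCat.{w} :=
  (constantSheaf J AddCommGrpCat.{w}).obj (AddCommGrpCat.of (ULift.{w} ℤ))

/-- Sections of a map of sheaves. -/
noncomputable abbrev sap {F G : Sheaf J AddCommGrpCat.{w}} (φ : F ⟶ G) (U : C) :
    F.obj.obj (op U) →+ G.obj.obj (op U) :=
  (φ.hom.app (op U)).hom

/-- Restriction of sections. -/
noncomputable abbrev srs (F : Sheaf J AddCommGrpCat.{w}) {U V : C} (h : V ⟶ U) :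
    F.obj.obj (op U) →+ F.obj.obj (op V) :=
  (F.obj.map h.op).hom

omit [HasSheafify J AddCommGrpCat.{w}] [HasExt.{w} (Sheaf J AddCommGrpCat.{w})] in
theorem sap_srs {F G : Sheaf J AddCommGrpCat.{w}} (φ : F ⟶ G) {U V : C} (h : V ⟶ U) (x : F.obj.obj (op U)) :
    sap φ V (srs F h x) = srs G h (sap φ U x) :=
  CategoryTheory.congr_fun (φ.hom.naturality h.op) x

/-- Degree zero cohomology is global sections. -/
noncomputable def gl (F : Sheaf J AddCommGrpCat.{w}) : Ext (ZS J) F 0 ≃+ F.obj.obj (op T) :=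
  Sheaf.H.equiv₀ F hT

/-- The generator of `ℤ`. -/
noncomputable def gen : (ZS J).obj.obj (op T) := gl hT (ZS J) (Ext.mk₀ (𝟙 _))

theorem gl_map {F G : Sheaf J AddCommGrpCat.{w}} (φ : F ⟶ G) (x : Ext (ZS J) F 0) :
    gl hT G (x.comp (Ext.mk₀ φ) (add_zero 0)) = sap φ T (gl hT F x) :=
  (Sheaf.H.equiv₀_naturality hT φ x).symm

theorem gl_mk₀ {F : Sheaf J AddCommGrpCat.{w}} (φ : ZS J ⟶ F) :
    gl hT F (Ext.mk₀ φ) = sap φ T (gen (J := J) hT) := by
  refine Eq.trans ?_ (gl_map hT φ _)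
  rw [Ext.mk₀_comp_mk₀, Category.id_comp]

variable {D : Type u'} [Category.{v'} D] {J' : GrothendieckTopology D} [HasSheafify J' AddCommGrpCat.{w}]
  [HasExt.{w} (Sheaf J' AddCommGrpCat.{w})] {T' : D} (hT' : IsTerminal T')
  (m : D ⥤ C) [m.IsContinuous J' J]

/-- The canonical map of constant sheaves. -/
noncomputable def geps : ZS J' ⟶ (m.sheafPushforwardContinuous AddCommGrpCat.{w} J' J).obj (ZS J) :=
  Ext.addEquiv₀ ((gl hT' _).symm (srs (ZS J) (hT.from (m.obj T')) (gen (J := J) hT)))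

theorem sap_geps : sap (geps hT hT' m) T' (gen (J := J') hT') = srs (ZS J) (hT.from (m.obj T')) (gen (J := J) hT) := by
  rw [← gl_mk₀, geps]
  erw [Ext.mk₀_addEquiv₀_apply]
  exact (gl hT' _).apply_symm_apply _

variable [(m.sheafPushforwardContinuous AddCommGrpCat.{w} J' J).Additive]
  [PreservesFiniteLimits (m.sheafPushforwardContinuous AddCommGrpCat.{w} J' J)]
  [PreservesFiniteColimits (m.sheafPushforwardContinuous AddCommGrpCat.{w} J' J)]

/-- Restriction in cohomology. -/
noncomputable abbrev gres (F : Sheaf J AddCommGrpCat.{w}) (n : ℕ) :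
    Ext (ZS J) F n →+ Ext (ZS J') ((m.sheafPushforwardContinuous AddCommGrpCat.{w} J' J).obj F) n :=
  mapPre (m.sheafPushforwardContinuous AddCommGrpCat.{w} J' J) (geps hT hT' m) F n

theorem gl_gres (F : Sheaf J AddCommGrpCat.{w}) (x : Ext (ZS J) F 0) :
    gl hT' ((m.sheafPushforwardContinuous AddCommGrpCat.{w} J' J).obj F) (gres hT hT' m F 0 x) =
      srs F (hT.from (m.obj T')) (gl hT F x) := by
  obtain ⟨φ, rfl⟩ := (Ext.mk₀_bijective _ _).2 x
  rw [mapPre_mk₀, gl_mk₀, gl_mk₀]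
  change sap φ (m.obj T') (sap (geps hT hT' m) T' (gen (J := J') hT')) = _
  rw [sap_geps]
  exact sap_srs φ (hT.from (m.obj T')) (gen (J := J) hT)

omit [HasExt.{w} (Sheaf J AddCommGrpCat.{w})] in
include hT' in
theorem exists_sap_eq_gen {S : ShortComplex (Sheaf J AddCommGrpCat.{w})} (hS : S.ShortExact)
    (h : Subsingleton (Ext (ZS J') ((m.sheafPushforwardContinuous AddCommGrpCat.{w} J' J).obj S.X₁) 1))
    {U : C} (e : m.obj T' ≅ U) (s : S.X₃.obj.obj (op U)) : ∃ t, sap S.g U t = s := by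
  let L := m.sheafPushforwardContinuous AddCommGrpCat.{w} J' J
  let c : Ext (ZS J') (L.obj S.X₃) 0 := (gl hT' (L.obj S.X₃)).symm (srs S.X₃ e.hom s)
  obtain ⟨y, hy⟩ := Ext.covariant_sequence_exact₃ _ (hS.map_of_exact L) c (zero_add 1) (h.elim _ _)
  refine ⟨srs S.X₂ e.inv (gl hT' (L.obj S.X₂) y), ?_⟩
  have he := congrArg (gl hT' (L.obj S.X₃)) hy
  erw [gl_map, AddEquiv.apply_symm_apply] at he
  rw [sap_srs]
  refine (congrArg _ he).trans ?_
  change (S.X₃.obj.map e.inv.op) (S.X₃.obj.map e.hom.op s) = s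
  rw [← CategoryTheory.comp_apply, ← Functor.map_comp, ← op_comp, Iso.inv_hom_id, op_id, CategoryTheory.Functor.map_id]
  rfl

variable {p : C ⥤ D} [p.IsContinuous J J'] (adj : m ⊣ p)

theorem cmp_zero_bijective (G : Sheaf J' AddCommGrpCat.{w}) :
    Function.Bijective (cmp _ (geps hT hT' m)
      (adj.sheafPushforwardContinuous (E := AddCommGrpCat.{w}) J' J) G 0) := by
  let a : T' ⟶ p.obj (m.obj T') := adj.unit.app T'
  let b : p.obj (m.obj T') ⟶ p.obj T := p.map (hT.from (m.obj T'))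
  have : PreservesLimit (Functor.empty.{0} C) p :=
    have : PreservesLimitsOfSize.{0, 0} p := adj.rightAdjoint_preservesLimits
    inferInstance
  have hpT : IsTerminal (p.obj T) := IsTerminal.isTerminalObj p _ hT
  have : IsIso (a ≫ b) := ⟨hT'.from _, hT'.hom_ext _ _, hpT.hom_ext _ _⟩
  let e := (G.obj.mapIso (asIso (a ≫ b)).op).addCommGroupIsoToAddEquiv
  let R := p.sheafPushforwardContinuous AddCommGrpCat.{w} J J'
  let A := adj.sheafPushforwardContinuous (E := AddCommGrpCat.{w}) J' J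
  have key : ∀ x, gl hT' G (cmp _ (geps hT hT' m) A G 0 x) = e (gl hT (R.obj G) x) := fun x => by
    rw [cmp_apply, gl_map]
    refine (congrArg _ (gl_gres hT hT' m (R.obj G) x)).trans ?_
    exact (CategoryTheory.congr_fun (G.obj.map_comp b.op a.op) _).symm
  constructor
  · intro x y hxy
    exact (gl hT (R.obj G)).injective (e.injective (by rw [← key, ← key, hxy]))
  · intro z
    refine ⟨(gl hT (R.obj G)).symm (e.symm (gl hT' G z)), (gl hT' G).injective ?_⟩
    rw [key, AddEquiv.apply_symm_apply, AddEquiv.apply_symm_apply]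

end Groth.Agent.AdeqCoh
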