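import Groth.Agent.BigShriek.Basic
import Groth.Prelude.Def_BigSite2
import Groth.Agent.AdeqCoh.SiteGen

/-!
# Restriction maps on the cohomology of big sites and comparison with pushforward
-/

set_option backward.isDefEq.respectTransparency false

universe u


open CategoryTheory CategoryTheory.Limits AlgebraicGeometry Opposite Abelian

namespace Groth.Agent.AdeqCoh

open BigSite (Ab pullBig pushBig bigAdj H HU sect)

variable {K : Precoverage Scheme.{u}}


instance {X W : Scheme.{u}} (w : W ⟶ X) : PreservesFiniteLimits (pullBig K w AddCommGrpCat.{u + 1}) :=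
  have : PreservesLimitsOfSize.{0, 0} (pullBig K w AddCommGrpCat.{u + 1}) :=
    (BigShriek.shriekAdj K w).rightAdjoint_preservesLimits
  ⟨fun _ _ _ => inferInstance⟩

instance {X W : Scheme.{u}} (w : W ⟶ X) : PreservesFiniteColimits (pullBig K w AddCommGrpCat.{u + 1}) :=
  have : PreservesColimitsOfSize.{0, 0} (pullBig K w AddCommGrpCat.{u + 1}) := (bigAdj K w AddCommGrpCat.{u + 1}).leftAdjoint_preservesColimits
  ⟨fun _ _ _ => inferInstance⟩

instance {X W : Scheme.{u}} (w : W ⟶ X) : (pullBig K w AddCommGrpCat.{u + 1}).PreservesInjectiveObjects :=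
  BigShriek.preservesInjective_pullBig K w

instance {X W : Scheme.{u}} (w : W ⟶ X) : (pushBig K w AddCommGrpCat.{u + 1}).PreservesInjectiveObjects :=
  Functor.preservesInjectiveObjects_of_adjunction_of_preservesMonomorphisms (bigAdj K w AddCommGrpCat.{u + 1})

/-- Sheaves of abelian groups exist on big sites. -/
theorem hasSheafify_big (X : Scheme.{u}) : HasSheafify (QuotSh.J K X) AddCommGrpCat.{u + 1} := inferInstance

attribute [local instance 2000] hasSheafify_big

/-- Ext groups exist on big sites. -/
theorem hasExt_big (X : Scheme.{u}) : HasExt.{u + 1} (Ab K X) := inferInstance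

attribute [local instance 2000] hasExt_big

/-- The final object of the big site. -/
noncomputable abbrev top (X : Scheme.{u}) : Over X := Over.mk (𝟙 X)

/-- The final object is final. -/
noncomputable abbrev topTerminal (X : Scheme.{u}) : IsTerminal (top X) := Over.mkIdTerminal

/-- Restriction of global sections. -/
noncomputable abbrev topMap {X W : Scheme.{u}} (w : W ⟶ X) : (Over.map w).obj (top W) ⟶ top X :=
  (topTerminal X).from _

/-- The canonical map of constant sheaves. -/
noncomputable def eps (K : Precoverage Scheme.{u}) {X W : Scheme.{u}} (w : W ⟶ X) :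
    ZS (QuotSh.J K W) ⟶ (pullBig K w AddCommGrpCat.{u + 1}).obj (ZS (QuotSh.J K X)) :=
  geps (topTerminal X) (topTerminal W) (Over.map w)

/-- Restriction in cohomology. -/
noncomputable abbrev res {X W : Scheme.{u}} (w : W ⟶ X) (F : Ab K X) (n : ℕ) :
    H K X F n →+ H K W ((pullBig K w AddCommGrpCat.{u + 1}).obj F) n :=
  mapPre (pullBig K w AddCommGrpCat.{u + 1}) (eps K w) F n

/-- Degree zero cohomology is global sections. -/
noncomputable abbrev gl0 {X : Scheme.{u}} (F : Ab K X) : H K X F 0 ≃+ sect K F (top X) :=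
  gl (topTerminal X) F

theorem gl_res {X W : Scheme.{u}} (w : W ⟶ X) (F : Ab K X) (x : H K X F 0) :
    gl0 ((pullBig K w AddCommGrpCat.{u + 1}).obj F) (res w F 0 x) = srs F (topMap w) (gl0 F x) :=
  gl_gres (topTerminal X) (topTerminal W) (Over.map w) F x

/-- Vanishing of cohomology in degrees `1, …, n` on all affine objects. -/
def Van {X : Scheme.{u}} (F : Ab K X) (n : ℕ) : Prop :=
  ∀ (U : Over X), IsAffine U.left → ∀ j, 1 ≤ j → j ≤ n → Subsingleton (HU K F j U)

theorem subsingleton_HU_X₃ {X : Scheme.{u}} {S : ShortComplex (Ab K X)} (hS : S.ShortExact) [Injective S.X₂]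
    {n : ℕ} (h : Van S.X₁ (n + 1)) : Van S.X₃ n := by
  intro U hU j hj hjn
  have : Injective (S.map (pullBig K U.hom AddCommGrpCat.{u + 1})).X₂ := Functor.injective_obj (pullBig K U.hom AddCommGrpCat.{u + 1}) S.X₂
  refine subsingleton_of_forall_eq 0 fun c => Gen.comp_extClass_injective (hS.map_of_exact (pullBig K U.hom AddCommGrpCat.{u + 1})) hj c ?_
  exact (h U hU (j + 1) (by omega) (by omega)).elim _ _

/-- The object of a big site as a pullback of the final object. -/
noncomputable def topIso {X : Scheme.{u}} (U : Over X) : (Over.map U.hom).obj (top U.left) ≅ U :=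
  Over.isoMk (Iso.refl _)

theorem exists_sap_eq {X : Scheme.{u}} {S : ShortComplex (Ab K X)} (hS : S.ShortExact) (U : Over X)
    (h : Subsingleton (HU K S.X₁ 1 U)) (s : sect K S.X₃ U) : ∃ t, sap S.g U t = s :=
  exists_sap_eq_gen (topTerminal U.left) (Over.map U.hom) hS h (topIso U) s

section Push

variable {X W : Scheme.{u}} (w : W ⟶ X)

/-- The comparison map from the cohomology of a pushforward. -/
noncomputable abbrev mu (G : Ab K W) (n : ℕ) : H K X ((pushBig K w AddCommGrpCat.{u + 1}).obj G) n →+ H K W G n :=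
  cmp (pullBig K w AddCommGrpCat.{u + 1}) (eps K w) (bigAdj K w AddCommGrpCat.{u + 1}) G n

theorem epi_push_of_van (hK : Scheme.zariskiPrecoverage ≤ K) [IsAffineHom w] {S : ShortComplex (Ab K W)}
    (hS : S.ShortExact) (h : Van S.X₁ 1) : Epi ((pushBig K w AddCommGrpCat.{u + 1}).map S.g) := by
  have : Sheaf.IsLocallySurjective ((pushBig K w AddCommGrpCat.{u + 1}).map S.g) := ⟨fun {V} s => by
    let f : ∀ i : V.left.affineCover.I₀, Over.mk (V.left.affineCover.f i ≫ V.hom) ⟶ V :=
      fun i => Over.homMk (V.left.affineCover.f i) rfl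
    rw [GrothendieckTopology.mem_over_iff]
    refine GrothendieckTopology.superset_covering _ ?_
      (Precoverage.generate_mem_toGrothendieck (hK _ V.left.affineCover.mem₀))
    rintro Y g ⟨Z, q, r, hr, rfl⟩
    obtain ⟨i⟩ := hr
    rw [Sieve.overEquiv_iff]
    let U' : Over W := (Over.pullback w).obj (Over.mk (V.left.affineCover.f i ≫ V.hom))
    have : IsAffine U'.left := by
      change IsAffine (pullback (V.left.affineCover.f i ≫ V.hom) w)
      exact isAffine_of_isAffineHom (pullback.fst (V.left.affineCover.f i ≫ V.hom) w)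
    obtain ⟨t, ht⟩ := exists_sap_eq hS U' (h U' this 1 le_rfl le_rfl)
      (srs S.X₃ ((Over.pullback w).map (f i)) s)
    have hi : (Presheaf.imageSieve ((pushBig K w AddCommGrpCat.{u + 1}).map S.g).hom s).arrows (f i) := ⟨t, ht⟩
    let q' : Over.mk ((q ≫ V.left.affineCover.f i) ≫ V.hom) ⟶ Over.mk (V.left.affineCover.f i ≫ V.hom) :=
      Over.homMk q (Category.assoc _ _ _).symm
    convert (Presheaf.imageSieve ((pushBig K w AddCommGrpCat.{u + 1}).map S.g).hom s).downward_closed hi q' using 1
    exact Over.OverMorphism.ext rfl⟩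
  exact Sheaf.epi_of_isLocallySurjective _

/-- The comparison map is injective one degree above a range of vanishing. -/
theorem mu_injective (hK : Scheme.zariskiPrecoverage ≤ K) [IsAffineHom w] (n : ℕ) : ∀ (G : Ab K W), Van G n →
    ∀ x : H K X ((pushBig K w AddCommGrpCat.{u + 1}).obj G) (n + 1), mu w G (n + 1) x = 0 → x = 0 := by
  have h0 := cmp_zero_bijective (topTerminal X) (topTerminal W) (J := QuotSh.J K X) (J' := QuotSh.J K W)
    (Over.map w) (Over.mapPullbackAdj w)
  induction n with
  | zero => exact fun G _ => cmp_injective_step _ _ _ h0 G 0 (fun h => absurd h (by omega))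
  | succ n ih =>
    intro G hG
    refine cmp_injective_step _ _ _ h0 G (n + 1) fun _ S hS hJ he => ?_
    have hv : Van S.X₁ (n + 1) := he.symm ▸ hG
    exact ⟨epi_push_of_van w hK hS (fun U hU j h1 h2 => hv U hU j h1 (by omega)),
      ih S.X₃ (subsingleton_HU_X₃ hS hv)⟩

end Push

end Groth.Agent.AdeqCoh
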